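import Mathlib

set_option autoImplicit false
set_option linter.unusedSectionVars false

/-!
# A combinatorial lemma on multiplicities along a free action of a cyclic group of prime order

`X` is a finite set with a permutation `σ` of order `p` all of whose nontrivial powers are
fixed point free; `n x ≥ 0` are integer multiplicities and `d x ≥ 1` integer degrees, constant
on the orbits of `σ`.  If the total degree `N = ∑ n x d x` satisfies `1 ≤ N ≤ p - 1` and
`p ∑ n x ^ 2 - ∑_j ∑_x n x n (σ^j x) ≤ p - 1`, then `N = p - 1` or `n` is the indicator of a point.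
-/

namespace Cfsg.Agent.Helper15.Ito

open Finset

section orbit

variable {X : Type*} [Fintype X] [DecidableEq X]

/-- orbit sums -/
def orbSum (p : ℕ) (σ : Equiv.Perm X) (n : X → ℤ) (x : X) : ℤ :=
  ∑ j ∈ range p, n ((σ ^ j) x)

theorem orbSum_apply (p : ℕ) (σ : Equiv.Perm X) (hσp : σ ^ p = 1) (n : X → ℤ) (x : X) :
    orbSum p σ n (σ x) = orbSum p σ n x := by
  unfold orbSum
  have h1 : ∀ j : ℕ, (σ ^ j) (σ x) = (σ ^ (j + 1)) x := by
    intro j
    rw [pow_succ, Equiv.Perm.mul_apply]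
  simp only [h1]
  have h2 := Finset.sum_range_succ' (fun j => n ((σ ^ j) x)) p
  have h3 := Finset.sum_range_succ (fun j => n ((σ ^ j) x)) p
  have h4 : n ((σ ^ p) x) = n ((σ ^ 0) x) := by rw [hσp, pow_zero]
  linarith

theorem orbSum_pow (p : ℕ) (σ : Equiv.Perm X) (hσp : σ ^ p = 1) (n : X → ℤ) (j : ℕ) (x : X) :
    orbSum p σ n ((σ ^ j) x) = orbSum p σ n x := by
  induction j with
  | zero => simp
  | succ j ih =>
    rw [pow_succ', Equiv.Perm.mul_apply, orbSum_apply p σ hσp, ih]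

theorem orbit_analysis (p : ℕ) (hp : p.Prime) (σ : Equiv.Perm X) (hσp : σ ^ p = 1)
    (hfix : ∀ j : ℕ, 0 < j → j < p → ∀ x : X, (σ ^ j) x ≠ x)
    (n d : X → ℤ) (hn0 : ∀ x, 0 ≤ n x) (hd : ∀ x, 1 ≤ d x) (hdσ : ∀ x, d (σ x) = d x)
    (N : ℤ) (hN : N = ∑ x, n x * d x) (hN1 : 1 ≤ N) (hNp : N ≤ p - 1)
    (hT : (p : ℤ) * ∑ x, n x ^ 2 - ∑ j ∈ range p, ∑ x, n x * n ((σ ^ j) x) ≤ p - 1) :
    N = p - 1 ∨ ∃ x₀, ∀ x, n x = if x = x₀ then 1 else 0 := by
  classical
  have hp2 : (2 : ℤ) ≤ p := by exact_mod_cast hp.two_le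
  set s : X → ℤ := orbSum p σ n with hs
  have hsσ : ∀ j x, s ((σ ^ j) x) = s x := fun j x => orbSum_pow p σ hσp n j x
  have hdpow : ∀ j x, d ((σ ^ j) x) = d x := by
    intro j
    induction j with
    | zero => intro x; simp
    | succ j ih => intro x; rw [pow_succ', Equiv.Perm.mul_apply, hdσ, ih]
  have hs0 : ∀ x, 0 ≤ s x := fun x => Finset.sum_nonneg (fun j _ => hn0 _)
  have hp0 : 0 < p := hp.pos
  have hns : ∀ x, n x ≤ s x := by
    intro x
    have : n ((σ ^ 0) x) ≤ ∑ j ∈ range p, n ((σ ^ j) x) :=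
      Finset.single_le_sum (f := fun j => n ((σ ^ j) x)) (fun j _ => hn0 _)
        (Finset.mem_range.mpr hp0)
    rw [pow_zero, Equiv.Perm.one_apply] at this
    exact this
  -- injectivity of `j ↦ σ^j x` on `range p`
  have hinj : ∀ x : X, Set.InjOn (fun j : ℕ => (σ ^ j) x) (range p : Finset ℕ) := by
    intro x
    have key : ∀ j j' : ℕ, j < j' → j' < p → (σ ^ j) x ≠ (σ ^ j') x := by
      intro j j' hjj' hj' h
      have h1 : (σ ^ (j' - j)) ((σ ^ j) x) = (σ ^ j') x := by
        rw [← Equiv.Perm.mul_apply, ← pow_add, Nat.sub_add_cancel hjj'.le]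
      rw [← h] at h1
      exact hfix (j' - j) (by omega) (by omega) _ h1
    intro j hj j' hj' h
    simp only [coe_range, Set.mem_Iio] at hj hj'
    by_contra hne
    rcases lt_or_gt_of_ne hne with hlt | hlt
    · exact key j j' hlt hj' h
    · exact key j' j hlt hj h.symm
  -- (ii)
  have h2 : ∑ x, ∑ j ∈ range p, n ((σ ^ j) x) ^ 2 = (p : ℤ) * ∑ x, n x ^ 2 := by
    rw [Finset.sum_comm]
    have : ∀ j ∈ range p, ∑ x, n ((σ ^ j) x) ^ 2 = ∑ x, n x ^ 2 := by
      intro j _
      exact Equiv.sum_comp (σ ^ j) (fun x => n x ^ 2)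
    rw [Finset.sum_congr rfl this, Finset.sum_const, card_range, nsmul_eq_mul]
  -- (iii)
  have h3a : ∑ x, n x * s x = ∑ j ∈ range p, ∑ x, n x * n ((σ ^ j) x) := by
    rw [Finset.sum_comm]
    apply Finset.sum_congr rfl
    intro x _
    rw [hs, orbSum, Finset.mul_sum]
  have h3 : ∑ x, s x ^ 2 = (p : ℤ) * ∑ x, n x * s x := by
    have e1 : ∑ x, s x ^ 2 = ∑ j ∈ range p, ∑ x, s x * n ((σ ^ j) x) := by
      rw [Finset.sum_comm]
      apply Finset.sum_congr rfl
      intro x _
      rw [sq, ← Finset.mul_sum]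
      rfl
    rw [e1]
    have : ∀ j ∈ range p, ∑ x, s x * n ((σ ^ j) x) = ∑ x, n x * s x := by
      intro j _
      have : ∑ x, s x * n ((σ ^ j) x) = ∑ x, s ((σ ^ j) x) * n ((σ ^ j) x) := by
        apply Finset.sum_congr rfl
        intro x _
        rw [hsσ]
      rw [this, Equiv.sum_comp (σ ^ j) (fun x => s x * n x)]
      apply Finset.sum_congr rfl
      intro x _
      ring
    rw [Finset.sum_congr rfl this, Finset.sum_const, card_range, nsmul_eq_mul]
  -- (iv)
  have h4 : ∀ x, s x * d x ≤ N := by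
    intro x
    have e : s x * d x = ∑ y ∈ (range p).image (fun j : ℕ => (σ ^ j) x), n y * d y := by
      rw [Finset.sum_image (hinj x), hs, orbSum, Finset.sum_mul]
      apply Finset.sum_congr rfl
      intro j _
      rw [hdpow]
    rw [e, hN]
    apply Finset.sum_le_sum_of_subset_of_nonneg (Finset.subset_univ _)
    intro y _ _
    exact mul_nonneg (hn0 y) (by linarith [hd y])
  have hsp : ∀ x, s x ≤ p - 1 := by
    intro x
    have := h4 x
    have h1 := hd x
    have h0 := hs0 x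
    nlinarith
  -- (v)
  have h5 : ∀ x, (p : ℤ) * s x ≤ (p : ℤ) * ∑ j ∈ range p, n ((σ ^ j) x) ^ 2 := by
    intro x
    apply mul_le_mul_of_nonneg_left _ (by linarith)
    rw [hs, orbSum]
    apply Finset.sum_le_sum
    intro j _
    have := hn0 ((σ ^ j) x)
    nlinarith
  -- main inequality
  have hmain : ∑ x, s x * ((p : ℤ) - s x) ≤ (p : ℤ) * (p - 1) := by
    have e1 : ∑ x, s x * ((p : ℤ) - s x) = ∑ x, (p : ℤ) * s x - ∑ x, s x ^ 2 := by
      rw [← Finset.sum_sub_distrib]
      apply Finset.sum_congr rfl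
      intro x _
      ring
    have e2 : ∑ x, (p : ℤ) * s x ≤ (p : ℤ) * ((p : ℤ) * ∑ x, n x ^ 2) := by
      rw [← h2, Finset.mul_sum]
      exact Finset.sum_le_sum (fun x _ => h5 x)
    rw [e1, h3, h3a]
    nlinarith
  -- a point with positive multiplicity
  have hex : ∃ x₀, 1 ≤ n x₀ := by
    by_contra hcon
    push Not at hcon
    have : ∑ x, n x * d x = 0 := by
      apply Finset.sum_eq_zero
      intro x _
      have h1 := hcon x
      have h2 := hn0 x
      have : n x = 0 := by omega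
      rw [this, zero_mul]
    rw [← hN] at this
    omega
  obtain ⟨x₀, hx₀⟩ := hex
  set O : Finset X := (range p).image (fun j : ℕ => (σ ^ j) x₀) with hO
  have hs1 : 1 ≤ s x₀ := le_trans hx₀ (hns x₀)
  have hsO : ∀ x ∈ O, s x = s x₀ := by
    intro x hx
    rw [hO, Finset.mem_image] at hx
    obtain ⟨j, _, rfl⟩ := hx
    exact hsσ j x₀
  have hsumO : ∑ x ∈ O, s x * ((p : ℤ) - s x) = (p : ℤ) * (s x₀ * ((p : ℤ) - s x₀)) := by
    rw [Finset.sum_congr rfl (fun x hx => by rw [hsO x hx]), Finset.sum_const, hO,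
      Finset.card_image_of_injOn (hinj x₀), card_range, nsmul_eq_mul]
  have hterm0 : ∀ x, 0 ≤ s x * ((p : ℤ) - s x) := by
    intro x
    have := hs0 x
    have := hsp x
    apply mul_nonneg <;> linarith
  have hsplit : ∑ x, s x * ((p : ℤ) - s x)
      = ∑ x ∈ O, s x * ((p : ℤ) - s x) + ∑ x ∈ Oᶜ, s x * ((p : ℤ) - s x) := by
    rw [← Finset.sum_add_sum_compl O]
  have hcompl0 : 0 ≤ ∑ x ∈ Oᶜ, s x * ((p : ℤ) - s x) :=
    Finset.sum_nonneg (fun x _ => hterm0 x)
  have hsx0p := hsp x₀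
  -- `s x₀ (p - s x₀) ≥ p - 1`
  have hge : (p : ℤ) - 1 ≤ s x₀ * ((p : ℤ) - s x₀) := by nlinarith
  have hle : s x₀ * ((p : ℤ) - s x₀) ≤ (p : ℤ) - 1 := by
    have : (p : ℤ) * (s x₀ * ((p : ℤ) - s x₀)) ≤ (p : ℤ) * (p - 1) := by
      rw [← hsumO]; linarith
    exact le_of_mul_le_mul_left this (by linarith)
  have heq : s x₀ * ((p : ℤ) - s x₀) = (p : ℤ) - 1 := le_antisymm hle hge
  have hcompl : ∑ x ∈ Oᶜ, s x * ((p : ℤ) - s x) = 0 := by
    have : (p : ℤ) * (s x₀ * ((p : ℤ) - s x₀)) = (p : ℤ) * (p - 1) := by rw [heq]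
    linarith
  have hout : ∀ x, x ∉ O → n x = 0 := by
    intro x hx
    have h1 := (Finset.sum_eq_zero_iff_of_nonneg (fun y _ => hterm0 y)).mp hcompl x
      (Finset.mem_compl.mpr hx)
    have h2 := hsp x
    have h3 : s x = 0 := by
      rcases mul_eq_zero.mp h1 with h | h
      · exact h
      · linarith
    have := hns x
    have := hn0 x
    linarith
  -- `N = d x₀ * s x₀`
  have hNds : N = s x₀ * d x₀ := by
    rw [hN, ← Finset.sum_add_sum_compl O]
    have : ∑ x ∈ Oᶜ, n x * d x = 0 := by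
      apply Finset.sum_eq_zero
      intro x hx
      rw [hout x (Finset.mem_compl.mp hx), zero_mul]
    rw [this, add_zero, hO, Finset.sum_image (hinj x₀), hs, orbSum, Finset.sum_mul]
    apply Finset.sum_congr rfl
    intro j _
    rw [hdpow]
  -- s x₀ = 1 or p - 1
  have hcases : s x₀ = 1 ∨ s x₀ = (p : ℤ) - 1 := by
    have : (s x₀ - 1) * ((p : ℤ) - 1 - s x₀) = 0 := by nlinarith
    rcases mul_eq_zero.mp this with h | h
    · left; linarith
    · right; linarith
  rcases hcases with h1 | h1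
  · right
    -- exactly one `j` with multiplicity one
    have hsum1 : ∑ j ∈ range p, n ((σ ^ j) x₀) = 1 := h1
    have hexj : ∃ j ∈ range p, 1 ≤ n ((σ ^ j) x₀) := by
      by_contra hcon
      push Not at hcon
      have : ∑ j ∈ range p, n ((σ ^ j) x₀) = 0 := by
        apply Finset.sum_eq_zero
        intro j hj
        have := hcon j hj
        have := hn0 ((σ ^ j) x₀)
        omega
      omega
    obtain ⟨j₁, hj₁, hj₁n⟩ := hexj
    refine ⟨(σ ^ j₁) x₀, ?_⟩
    have hsplit2 := Finset.add_sum_erase (range p) (fun j => n ((σ ^ j) x₀)) hj₁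
    have hrest0 : 0 ≤ ∑ j ∈ (range p).erase j₁, n ((σ ^ j) x₀) :=
      Finset.sum_nonneg (fun j _ => hn0 _)
    have hn1 : n ((σ ^ j₁) x₀) = 1 := by
      linarith
    have hrest : ∑ j ∈ (range p).erase j₁, n ((σ ^ j) x₀) = 0 := by
      linarith
    intro x
    split_ifs with hx
    · rw [hx, hn1]
    · by_cases hxO : x ∈ O
      · rw [hO, Finset.mem_image] at hxO
        obtain ⟨j, hj, rfl⟩ := hxO
        have hjne : j ≠ j₁ := by
          intro h; apply hx; rw [h]
        exact (Finset.sum_eq_zero_iff_of_nonneg (fun j _ => hn0 _)).mp hrest j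
          (Finset.mem_erase.mpr ⟨hjne, hj⟩)
      · exact hout x hxO
  · left
    rw [hNds, h1] at hNp ⊢
    have hd1 := hd x₀
    have hp1 : (1 : ℤ) ≤ (p : ℤ) - 1 := by linarith
    have : d x₀ = 1 := by nlinarith
    rw [this, mul_one]

end orbit

end Cfsg.Agent.Helper15.Ito
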