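import Mathlib
import Cfsg.Prelude.Def_Characters
import Cfsg.Prelude.Def_Blocks
import Cfsg.Agent.Lib.Helper81.CharInd
import Cfsg.Agent.Lib.Helper79.CharBasic
import Cfsg.Agent.Lib.Helper74.LinChar
import Cfsg.Agent.Lib.Helper15.Central
import Cfsg.Agent.Lib.Helper15.BLMaster
import Cfsg.Agent.Lib.Helper15.Ito.Orbit

set_option autoImplicit false
set_option linter.unusedSectionVars false
set_option linter.style.haveILetI false

/-!
# The character-theoretic core of Itô's theorem on `p`-solvable linear groups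

`H` is a subgroup of `G`, `lam` a linear character of `G` of order `p`, such that the elements of
`H` outside the kernel of `lam` form a trivial intersection set with normaliser `H`, and `y` is a
central element of `H` outside the kernel of `lam`.  Then an irreducible character of `G` of degree
at most `p - 1` has degree exactly `p - 1` or restricts irreducibly to `H`.
-/

namespace Cfsg.Agent.Helper15.Ito

open Cfsg Cfsg.Agent.Helper81 Cfsg.Agent.Helper79 Cfsg.Agent.Helper74.Lin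
open scoped ComplexConjugate

universe u

theorem ind_eq (p : ℕ) (hp : 0 < p) (z : ℂ) (hz : z ^ p = 1) :
    (if z ≠ 1 then (1 : ℂ) else 0) = 1 - (p : ℂ)⁻¹ * ∑ j ∈ Finset.range p, z ^ j := by
  have hp0 : (p : ℂ) ≠ 0 := by exact_mod_cast hp.ne'
  by_cases h : z = 1
  · subst h
    simp [hp0]
  · rw [if_pos h, geom_sum_eq h, hz, sub_self, zero_div, mul_zero, sub_zero]

section core

variable {G : Type u} [Group G] [Fintype G]

theorem toPerm_pow_apply {H : Type u} [Group H] (φ : H →* ℂˣ) (j : ℕ) (Θ : IrrCharacter H) :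
    ((MulAction.toPerm φ : Equiv.Perm (IrrCharacter H)) ^ j) Θ = φ ^ j • Θ := by
  have : (MulAction.toPerm φ : Equiv.Perm (IrrCharacter H)) ^ j
      = MulAction.toPerm (φ ^ j) := by
    have h := map_pow (MulAction.toPermHom (H →* ℂˣ) (IrrCharacter H)) φ j
    simpa using h.symm
  rw [this]
  rfl

theorem pow_smul_apply {H : Type u} [Group H] (φ : H →* ℂˣ) (j : ℕ) (Θ : IrrCharacter H) (h : H) :
    ((φ ^ j • Θ : IrrCharacter H) : H → ℂ) h = ((φ h : ℂˣ) : ℂ) ^ j * (Θ : H → ℂ) h := by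
  rw [Cfsg.Agent.Helper74.Lin.smul_apply]
  simp

/-- inner product of a twisted character with the untwisted one -/
theorem twisted_inner {H : Type u} [Group H] [Fintype H] [Fintype (IrrCharacter H)]
    (φ : H →* ℂˣ) (m : IrrCharacter H → ℕ) (Ψ : H → ℂ)
    (hm : Ψ = ∑ Θ, (m Θ : ℂ) • (Θ : H → ℂ)) (j : ℕ) :
    classInner (fun h => ((φ h : ℂˣ) : ℂ) ^ j * Ψ h) Ψ
      = ∑ Θ, (m Θ : ℂ) * (m (((MulAction.toPerm φ : Equiv.Perm (IrrCharacter H)) ^ j) Θ) : ℂ) := by
  have e1 : (fun h => ((φ h : ℂˣ) : ℂ) ^ j * Ψ h)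
      = ∑ Θ, (m Θ : ℂ) • (((φ ^ j • Θ : IrrCharacter H)) : H → ℂ) := by
    funext h
    rw [hm]
    simp only [Finset.sum_apply, Pi.smul_apply, smul_eq_mul, pow_smul_apply]
    rw [Finset.mul_sum]
    apply Finset.sum_congr rfl
    intro Θ _
    ring
  rw [e1, classInner_sum_left]
  apply Finset.sum_congr rfl
  intro Θ _
  rw [classInner_smul_left, toPerm_pow_apply]
  congr 1
  rw [classInner_conj_symm]
  conv_lhs => rw [hm]
  rw [classInner_nat_decomp (fun Θ' => (m Θ' : ℂ))]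
  simp

open scoped Classical in
theorem core (p : ℕ) [hp : Fact p.Prime]
    (H : Subgroup G) (lam : G →* ℂˣ) (hlam : ∀ g, lam g ^ p = 1)
    (y : G) (hyH : y ∈ H) (hyc : ∀ h ∈ H, h * y = y * h) (hy : lam y ≠ 1)
    (hTI : ∀ a ∈ H, lam a ≠ 1 → ∀ g : G, g * a * g⁻¹ ∈ H → g ∈ H)
    (χ : IrrCharacter G) (hn : charDegree (χ : G → ℂ) ≤ p - 1) :
    charDegree (χ : G → ℂ) = p - 1 ∨ IsIrrCharacter H (fun h : H => (χ : G → ℂ) h) := by
  haveI : Fintype H := Fintype.ofFinite H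
  haveI : Finite (IrrCharacter H) := Cfsg.Agent.Helper81.irr_finite
  haveI : Fintype (IrrCharacter H) := Fintype.ofFinite _
  have hpp : p.Prime := hp.out
  set Ψ : H → ℂ := fun h => (χ : G → ℂ) h with hΨ
  have hΨc : IsCharacter H Ψ := isCharacter_restrict H (IsIrrCharacter.isCharacter χ.2)
  obtain ⟨m, hm⟩ := exists_nat_decomp hΨc
  set φ : H →* ℂˣ := lam.comp H.subtype with hφ
  set σ : Equiv.Perm (IrrCharacter H) := MulAction.toPerm φ with hσ
  have hφp : φ ^ p = 1 := by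
    ext h
    simp only [MonoidHom.pow_apply, hφ, MonoidHom.comp_apply, Subgroup.coe_subtype,
      MonoidHom.one_apply, Units.val_one]
    rw [hlam]; rfl
  have hσp : σ ^ p = 1 := by
    apply Equiv.ext
    intro Θ
    rw [hσ, toPerm_pow_apply, hφp, Equiv.Perm.one_apply]
    exact one_smul (↥H →* ℂˣ) Θ
  -- no fixed points
  have hordlam : orderOf (lam y) = p := by
    have h1 : orderOf (lam y) ∣ p := orderOf_dvd_of_pow_eq_one (hlam y)
    rcases (Nat.dvd_prime hpp).mp h1 with h | h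
    · exact absurd (orderOf_eq_one_iff.mp h) hy
    · exact h
  have hfix : ∀ j : ℕ, 0 < j → j < p → ∀ Θ : IrrCharacter H, (σ ^ j) Θ ≠ Θ := by
    intro j hj0 hjp Θ hΘ
    rw [hσ, toPerm_pow_apply] at hΘ
    have hval := congrArg (fun Θ' : IrrCharacter H => (Θ' : H → ℂ) ⟨y, hyH⟩) hΘ
    simp only [pow_smul_apply] at hval
    have hz : (⟨y, hyH⟩ : H) ∈ Subgroup.center H := by
      rw [Subgroup.mem_center_iff]
      intro g
      apply Subtype.ext
      exact hyc g g.2
    obtain ⟨c, hc1, hc2⟩ := irr_central_scalar Θ _ hz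
    have hΘy : (Θ : H → ℂ) ⟨y, hyH⟩ ≠ 0 := by
      have h1 := hc1 1
      rw [one_mul] at h1
      rw [h1]
      have hck := hc2 (orderOf (⟨y, hyH⟩ : H)) (pow_orderOf_eq_one _)
      have hc0 : c ≠ 0 := by
        intro h0
        rw [h0, zero_pow (orderOf_pos _).ne'] at hck
        exact zero_ne_one hck
      exact mul_ne_zero hc0 (irr_one_ne_zero Θ)
    have h1 : ((φ ⟨y, hyH⟩ : ℂˣ) : ℂ) ^ j = 1 := by
      have : (((φ ⟨y, hyH⟩ : ℂˣ) : ℂ) ^ j - 1) * (Θ : H → ℂ) ⟨y, hyH⟩ = 0 := by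
        rw [sub_mul, hval, one_mul, sub_self]
      rcases mul_eq_zero.mp this with h | h
      · exact sub_eq_zero.mp h
      · exact absurd h hΘy
    have h2 : (lam y) ^ j = 1 := by
      apply Units.ext
      rw [Units.val_pow_eq_pow_val]
      exact h1
    have h3 := orderOf_dvd_of_pow_eq_one h2
    rw [hordlam] at h3
    exact absurd (Nat.le_of_dvd hj0 h3) (by omega)
  -- degrees
  have hdeg : ∀ Θ : IrrCharacter H, charDegree ((σ Θ : IrrCharacter H) : H → ℂ)
      = charDegree (Θ : H → ℂ) := by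
    intro Θ
    have : ((σ Θ : IrrCharacter H) : H → ℂ) 1 = (Θ : H → ℂ) 1 := by
      show ((φ • Θ : IrrCharacter H) : H → ℂ) 1 = _
      rw [Cfsg.Agent.Helper74.Lin.smul_apply, map_one]; simp
    unfold charDegree
    rw [this]
  -- the degree as a sum
  have hχ1 := (irr_one_eq χ).1
  have hχpos := (irr_one_eq χ).2
  have hN : ((charDegree (χ : G → ℂ) : ℕ) : ℤ)
      = ∑ Θ, (m Θ : ℤ) * ((charDegree (Θ : H → ℂ) : ℕ) : ℤ) := by
    have h1 : (χ : G → ℂ) 1 = ∑ Θ : IrrCharacter H, (m Θ : ℂ) * (charDegree (Θ : H → ℂ) : ℂ) := by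
      have := congrFun hm 1
      simp only [hΨ, Finset.sum_apply, Pi.smul_apply, smul_eq_mul, Subgroup.coe_one] at this
      rw [this]
      apply Finset.sum_congr rfl
      intro Θ _
      rw [(irr_one_eq Θ).1]
    rw [hχ1] at h1
    have h2 : ((charDegree (χ : G → ℂ) : ℕ) : ℂ)
        = ((∑ Θ, (m Θ : ℤ) * ((charDegree (Θ : H → ℂ) : ℕ) : ℤ) : ℤ) : ℂ) := by
      rw [h1]; push_cast; rfl
    exact_mod_cast h2
  -- the TI inequality
  have hG0 : (0 : ℝ) < Nat.card G := by exact_mod_cast Nat.card_pos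
  have hH0 : (0 : ℝ) < Nat.card H := by exact_mod_cast Nat.card_pos
  have hTIineq := BL.ti_double_count {g : G | g ∈ H ∧ lam g ≠ 1} H
    (by
      intro a ha g hg
      exact hTI a ha.1 ha.2 g hg.1)
    (by
      intro h
      exact h.2 (map_one lam))
    (fun g => Complex.normSq ((χ : G → ℂ) g)) (fun g => Complex.normSq_nonneg _)
    (by
      intro g x
      rw [irr_class])
  rw [BL.sum_normSq_irr χ] at hTIineq
  have hTI2 : (Nat.card G : ℝ) * ∑ h : H, (if lam h ≠ 1 then Complex.normSq (Ψ h) else 0)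
      ≤ (Nat.card H : ℝ) * ((Nat.card G : ℝ) - Complex.normSq ((χ : G → ℂ) 1)) := by
    refine le_trans (le_of_eq ?_) hTIineq
    congr 1
    rw [BL.sum_subgroup_ite H (fun g => if lam g ≠ 1 then Complex.normSq ((χ : G → ℂ) g) else 0)]
    apply Finset.sum_congr rfl
    intro g _
    simp only [Set.mem_setOf_eq]
    split_ifs <;> simp_all
  clear hTIineq
  have hTIineq := hTI2
  -- evaluate the sum over `H`
  set a : ℕ → ℕ := fun j => ∑ Θ, m Θ * m ((σ ^ j) Θ) with ha
  have hE : ∀ j : ℕ, ∑ h : H, ((φ h : ℂˣ) : ℂ) ^ j * Ψ h * conj (Ψ h)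
      = (Nat.card H : ℂ) * (a j : ℂ) := by
    intro j
    have h1 := twisted_inner φ m Ψ hm j
    unfold classInner at h1
    have hH0' : (Nat.card H : ℂ) ≠ 0 := by exact_mod_cast (Nat.card_pos (α := H)).ne'
    have h2 : ∑ h : H, ((φ h : ℂˣ) : ℂ) ^ j * Ψ h * conj (Ψ h)
        = (Nat.card H : ℂ) * ∑ Θ, (m Θ : ℂ) * (m ((σ ^ j) Θ) : ℂ) := by
      rw [← h1]
      field_simp
    rw [h2, ha]
    push_cast
    rfl
  have hSeval : ((∑ h : H, (if lam h ≠ 1 then Complex.normSq (Ψ h) else 0) : ℝ) : ℂ)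
      = (Nat.card H : ℂ) * ((a 0 : ℂ) - (p : ℂ)⁻¹ * ∑ j ∈ Finset.range p, (a j : ℂ)) := by
    have h1 : ∀ h : H, (((if lam h ≠ 1 then Complex.normSq (Ψ h) else 0 : ℝ)) : ℂ)
        = Ψ h * conj (Ψ h) - (p : ℂ)⁻¹ * ∑ j ∈ Finset.range p,
            ((φ h : ℂˣ) : ℂ) ^ j * Ψ h * conj (Ψ h) := by
      intro h
      have hφh : φ h = lam (h : G) := rfl
      have hz : ((φ h : ℂˣ) : ℂ) ^ p = 1 := by
        have := hlam (h : G)
        have h' := congrArg (fun u : ℂˣ => (u : ℂ)) this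
        rw [hφh]
        simpa using h'
      have hind := ind_eq p hpp.pos _ hz
      have hcond : (lam h ≠ 1) ↔ (((φ h : ℂˣ) : ℂ) ≠ 1) := by
        constructor
        · intro h1 h2
          apply h1
          rw [← hφh]
          apply Units.ext
          simpa using h2
        · intro h1 h2
          apply h1
          rw [hφh, h2]; rfl
      have hmc : Ψ h * conj (Ψ h) = ((Complex.normSq (Ψ h) : ℝ) : ℂ) := Complex.mul_conj _
      by_cases hc : lam h ≠ 1
      · rw [if_pos hc]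
        rw [if_pos (hcond.mp hc)] at hind
        have : ∑ j ∈ Finset.range p, ((φ h : ℂˣ) : ℂ) ^ j * Ψ h * conj (Ψ h)
            = (∑ j ∈ Finset.range p, ((φ h : ℂˣ) : ℂ) ^ j) * (Ψ h * conj (Ψ h)) := by
          rw [Finset.sum_mul]
          apply Finset.sum_congr rfl
          intro j _; ring
        rw [this, ← hmc]
        have hind' : (p : ℂ)⁻¹ * ∑ j ∈ Finset.range p, ((φ h : ℂˣ) : ℂ) ^ j = 0 := by
          linear_combination hind
        rw [← mul_assoc, hind', zero_mul, sub_zero]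
      · rw [if_neg hc]
        have hc' : ¬ (((φ h : ℂˣ) : ℂ) ≠ 1) := fun h' => hc (hcond.mpr h')
        rw [if_neg hc'] at hind
        have : ∑ j ∈ Finset.range p, ((φ h : ℂˣ) : ℂ) ^ j * Ψ h * conj (Ψ h)
            = (∑ j ∈ Finset.range p, ((φ h : ℂˣ) : ℂ) ^ j) * (Ψ h * conj (Ψ h)) := by
          rw [Finset.sum_mul]
          apply Finset.sum_congr rfl
          intro j _; ring
        rw [this]
        have hind' : (p : ℂ)⁻¹ * ∑ j ∈ Finset.range p, ((φ h : ℂˣ) : ℂ) ^ j = 1 := by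
          linear_combination hind
        rw [← mul_assoc, hind', one_mul, sub_self]
        simp
    rw [Complex.ofReal_sum]
    rw [Finset.sum_congr rfl (fun h _ => h1 h), Finset.sum_sub_distrib, ← Finset.mul_sum,
      Finset.sum_comm]
    rw [Finset.sum_congr rfl (fun j _ => hE j)]
    have h0 := hE 0
    simp only [pow_zero, one_mul] at h0
    rw [h0, ← Finset.mul_sum]
    ring
  -- convert to a real statement
  have hSreal : (∑ h : H, (if lam h ≠ 1 then Complex.normSq (Ψ h) else 0) : ℝ)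
      = (Nat.card H : ℝ) * ((a 0 : ℝ) - (p : ℝ)⁻¹ * ∑ j ∈ Finset.range p, (a j : ℝ)) := by
    apply Complex.ofReal_injective
    rw [hSeval]
    push_cast
    rfl
  rw [hSreal] at hTIineq
  -- the integer inequality
  have hχ1' : Complex.normSq ((χ : G → ℂ) 1) = ((charDegree (χ : G → ℂ) : ℕ) : ℝ) ^ 2 := by
    rw [hχ1, Complex.normSq_natCast]; ring
  rw [hχ1'] at hTIineq
  have hn1 : (1 : ℝ) ≤ ((charDegree (χ : G → ℂ) : ℕ) : ℝ) := by exact_mod_cast hχpos
  have hp0 : (0 : ℝ) < p := by exact_mod_cast hpp.pos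
  have hkey : (a 0 : ℝ) - (p : ℝ)⁻¹ * ∑ j ∈ Finset.range p, (a j : ℝ) < 1 := by
    by_contra hcon
    push Not at hcon
    have h1 : (Nat.card G : ℝ) * ((Nat.card H : ℝ) * 1)
        ≤ (Nat.card G : ℝ) * ((Nat.card H : ℝ) *
          ((a 0 : ℝ) - (p : ℝ)⁻¹ * ∑ j ∈ Finset.range p, (a j : ℝ))) := by
      apply mul_le_mul_of_nonneg_left _ hG0.le
      exact mul_le_mul_of_nonneg_left hcon hH0.le
    have h2 : 0 < (Nat.card H : ℝ) * ((charDegree (χ : G → ℂ) : ℕ) : ℝ) ^ 2 := by positivity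
    have h3 : (Nat.card H : ℝ) * ((Nat.card G : ℝ) - ((charDegree (χ : G → ℂ) : ℕ) : ℝ) ^ 2)
        = (Nat.card G : ℝ) * ((Nat.card H : ℝ) * 1)
          - (Nat.card H : ℝ) * ((charDegree (χ : G → ℂ) : ℕ) : ℝ) ^ 2 := by ring
    linarith
  have hkey2 : (p : ℝ) * (a 0 : ℝ) - ∑ j ∈ Finset.range p, (a j : ℝ) < p := by
    have : (p : ℝ) * ((a 0 : ℝ) - (p : ℝ)⁻¹ * ∑ j ∈ Finset.range p, (a j : ℝ))
        = (p : ℝ) * (a 0 : ℝ) - ∑ j ∈ Finset.range p, (a j : ℝ) := by
      field_simp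
    rw [← this]
    nlinarith
  have hT : (p : ℤ) * ∑ Θ, (m Θ : ℤ) ^ 2
      - ∑ j ∈ Finset.range p, ∑ Θ, (m Θ : ℤ) * (m ((σ ^ j) Θ) : ℤ) ≤ p - 1 := by
    have h1 : ((p : ℤ) * ∑ Θ, (m Θ : ℤ) ^ 2
        - ∑ j ∈ Finset.range p, ∑ Θ, (m Θ : ℤ) * (m ((σ ^ j) Θ) : ℤ) : ℤ) < p := by
      have e0 : (a 0 : ℝ) = ((∑ Θ, (m Θ : ℤ) ^ 2 : ℤ) : ℝ) := by
        rw [ha]
        simp only [pow_zero, Equiv.Perm.one_apply]
        push_cast
        apply Finset.sum_congr rfl
        intro Θ _; ring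
      have e1 : ∑ j ∈ Finset.range p, (a j : ℝ)
          = ((∑ j ∈ Finset.range p, ∑ Θ, (m Θ : ℤ) * (m ((σ ^ j) Θ) : ℤ) : ℤ) : ℝ) := by
        rw [ha]
        push_cast
        rfl
      rw [e0, e1] at hkey2
      exact_mod_cast hkey2
    omega
  -- apply the orbit analysis
  have hres := orbit_analysis p hpp σ hσp hfix (fun Θ => (m Θ : ℤ))
    (fun Θ => ((charDegree (Θ : H → ℂ) : ℕ) : ℤ)) (fun Θ => by positivity)
    (fun Θ => by exact_mod_cast (irr_one_eq Θ).2)
    (fun Θ => by rw [hdeg Θ])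
    ((charDegree (χ : G → ℂ) : ℕ) : ℤ) hN (by exact_mod_cast hχpos)
    (by
      have : 1 ≤ p := hpp.one_lt.le
      have h' : ((charDegree (χ : G → ℂ) : ℕ) : ℤ) ≤ ((p - 1 : ℕ) : ℤ) := by exact_mod_cast hn
      rw [Nat.cast_sub this] at h'
      simpa using h')
    hT
  rcases hres with h1 | ⟨Θ₀, hΘ₀⟩
  · left
    have : 1 ≤ p := hpp.one_lt.le
    omega
  · right
    have : Ψ = (Θ₀ : H → ℂ) := by
      rw [hm]
      funext h
      simp only [Finset.sum_apply, Pi.smul_apply, smul_eq_mul]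
      rw [Finset.sum_eq_single Θ₀]
      · have := hΘ₀ Θ₀
        rw [if_pos rfl] at this
        have h' : m Θ₀ = 1 := by exact_mod_cast this
        rw [h']; simp
      · intro Θ _ hne
        have := hΘ₀ Θ
        rw [if_neg hne] at this
        have h' : m Θ = 0 := by exact_mod_cast this
        rw [h']; simp
      · intro h'
        exact absurd (Finset.mem_univ _) h'
    show IsIrrCharacter H Ψ
    rw [this]
    exact Θ₀.2

end core

end Cfsg.Agent.Helper15.Ito
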