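import Mathlib
import Cfsg.Prelude.Def_Local
import Cfsg.Agent.Lib.Helper15.TISolv

set_option autoImplicit false
set_option linter.unusedSectionVars false
set_option linter.style.haveILetI false

/-!
# Minimal non-`p`-closed `p`-solvable groups with abelian Sylow `p`-subgroups
-/

namespace Cfsg.Agent.Helper15.Ito

open Cfsg
open scoped Pointwise

universe u

section pclosed

variable {G : Type u} [Group G] [Finite G] {p : ℕ} [hp : Fact p.Prime]

/-- `K` is `p`-closed: its Sylow `p`-subgroups are normal. -/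
def PClosed (p : ℕ) (K : Subgroup G) : Prop := ∀ Q : Sylow p K, (Q : Subgroup K).Normal

theorem mem_of_pclosed {K : Subgroup G} (hK : PClosed p K) (P : Sylow p G)
    (hPK : (P : Subgroup G) ≤ K) {x : G} (hxK : x ∈ K) {k : ℕ} (hx : x ^ p ^ k = 1) :
    x ∈ (P : Subgroup G) := by
  haveI : Fintype K := Fintype.ofFinite K
  have hn := hK (P.subtype hPK)
  have h1 : (⟨x, hxK⟩ : K) ∈
      Subgroup.normalizer (((P.subtype hPK : Sylow p K) : Subgroup K) : Set K) := by
    rw [Subgroup.normalizer_eq_top_iff.mpr hn]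
    exact Subgroup.mem_top _
  have h2 : (⟨x, hxK⟩ : K) ^ p ^ k = 1 := by
    apply Subtype.ext
    rw [Subgroup.coe_pow, Subgroup.coe_one]
    exact hx
  have h3 := mem_sylow_of_mem_normalizer_of_pow (P.subtype hPK) h1 h2
  rw [Sylow.coe_subtype, Subgroup.mem_subgroupOf] at h3
  exact h3

theorem normal_of_le_normal_pclosed {K : Subgroup G} [hKn : K.Normal] (hK : PClosed p K)
    (P : Sylow p G) (hPK : (P : Subgroup G) ≤ K) : (P : Subgroup G).Normal := by
  constructor
  intro x hx g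
  obtain ⟨k, hk⟩ := (IsPGroup.iff_orderOf.mp P.2) ⟨x, hx⟩
  have hxk : x ^ p ^ k = 1 := by
    have h1 : orderOf x = p ^ k := by
      rw [← hk]
      exact (Subgroup.orderOf_mk x hx).symm
    rw [← h1]
    exact pow_orderOf_eq_one x
  apply mem_of_pclosed hK P hPK (hKn.conj_mem x (hPK hx) g) (k := k)
  rw [conj_pow, hxk]
  group

end pclosed

section minimal

variable {G : Type u} [Group G] [Finite G] {p : ℕ} [hp : Fact p.Prime]
  (hmin : ∀ K : Subgroup G, K ≠ ⊤ → PClosed p K)

include hmin in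
/-- In a group all of whose proper subgroups are `p`-closed, a `p'`-subgroup `A` normalized but
not centralized by a `p`-element `y` generates `G` together with `y`. -/
theorem sup_eq_top_of_not_comm (A : Subgroup G) (hA : (Nat.card A).Coprime p) (y : G) (k : ℕ)
    (hy : y ^ p ^ k = 1) (hnorm : ∀ x ∈ A, y * x * y⁻¹ ∈ A) (x : G) (hxA : x ∈ A)
    (hxy : x * y ≠ y * x) : A ⊔ Subgroup.zpowers y = ⊤ := by
  by_contra hne
  have hpc := hmin (A ⊔ Subgroup.zpowers y) hne
  have hyK : y ∈ A ⊔ Subgroup.zpowers y :=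
    (le_sup_right : Subgroup.zpowers y ≤ A ⊔ Subgroup.zpowers y) (Subgroup.mem_zpowers y)
  have hxK : x ∈ A ⊔ Subgroup.zpowers y := (le_sup_left : A ≤ A ⊔ Subgroup.zpowers y) hxA
  obtain ⟨R⟩ : Nonempty (Sylow p ↥(A ⊔ Subgroup.zpowers y)) := inferInstance
  have hRn := hpc R
  haveI : Fintype ↥(A ⊔ Subgroup.zpowers y) := Fintype.ofFinite _
  have hyR : (⟨y, hyK⟩ : ↥(A ⊔ Subgroup.zpowers y)) ∈ (R : Subgroup ↥(A ⊔ Subgroup.zpowers y)) := by
    apply mem_sylow_of_mem_normalizer_of_pow R _ (k := k)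
    · apply Subtype.ext
      rw [Subgroup.coe_pow, Subgroup.coe_one]
      exact hy
    · rw [Subgroup.normalizer_eq_top_iff.mpr hRn]
      exact Subgroup.mem_top _
  have hc : (⟨x, hxK⟩ : ↥(A ⊔ Subgroup.zpowers y)) * ⟨y, hyK⟩ * (⟨x, hxK⟩ : ↥(A ⊔ Subgroup.zpowers y))⁻¹
      * (⟨y, hyK⟩ : ↥(A ⊔ Subgroup.zpowers y))⁻¹ ∈ (R : Subgroup ↥(A ⊔ Subgroup.zpowers y)) :=
    (R : Subgroup ↥(A ⊔ Subgroup.zpowers y)).mul_mem (hRn.conj_mem _ hyR _)
      ((R : Subgroup ↥(A ⊔ Subgroup.zpowers y)).inv_mem hyR)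
  have hcA : x * y * x⁻¹ * y⁻¹ ∈ A := by
    have : x * y * x⁻¹ * y⁻¹ = x * (y * x⁻¹ * y⁻¹) := by group
    rw [this]
    exact A.mul_mem hxA (hnorm _ (A.inv_mem hxA))
  obtain ⟨j, hj⟩ := (IsPGroup.iff_orderOf.mp R.2) ⟨_, hc⟩
  have h1 : orderOf (x * y * x⁻¹ * y⁻¹) = p ^ j := by
    rw [← hj, Subgroup.orderOf_mk, ← Subgroup.orderOf_coe]
    rfl
  have h2 : orderOf (x * y * x⁻¹ * y⁻¹) ∣ Nat.card A := by
    have := orderOf_dvd_natCard (⟨_, hcA⟩ : A)
    rwa [Subgroup.orderOf_mk] at this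
  have h3 : orderOf (x * y * x⁻¹ * y⁻¹) = 1 :=
    Nat.eq_one_of_dvd_coprimes (Nat.Coprime.pow_right j hA) h2 (h1 ▸ dvd_refl _)
  have h4 : x * y * x⁻¹ * y⁻¹ = 1 := orderOf_eq_one_iff.mp h3
  apply hxy
  calc x * y = (x * y * x⁻¹ * y⁻¹) * (y * x) := by group
    _ = y * x := by rw [h4, one_mul]

/-- The top step of a `p`-solvable series. -/
theorem exists_top_step [Nontrivial G] (hsolv : IsPSolvable p G) :
    ∃ N : Subgroup G, N.Normal ∧ N ≠ ⊤ ∧ ((∃ m : ℕ, N.index = p ^ m) ∨ N.index.Coprime p) := by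
  classical
  obtain ⟨n, H, h0, hlast, hmono, hnorm, hfac⟩ := hsolv
  have hex : ∃ k : ℕ, ∃ hk : k < n + 1, H ⟨k, hk⟩ = ⊤ := ⟨n, Nat.lt_succ_self n, hlast⟩
  obtain ⟨hk₀lt, hk₀top⟩ := Nat.find_spec hex
  have hk₀pos : Nat.find hex ≠ 0 := by
    intro h
    have h1 : (⟨Nat.find hex, hk₀lt⟩ : Fin (n + 1)) = 0 := by
      apply Fin.ext; simpa using h
    rw [h1, h0] at hk₀top
    exact bot_ne_top hk₀top
  obtain ⟨j, hj⟩ := Nat.exists_eq_succ_of_ne_zero hk₀pos
  have hjn : j < n := by omega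
  have hsucc : (⟨Nat.find hex, hk₀lt⟩ : Fin (n + 1)) = (⟨j, hjn⟩ : Fin n).succ := by
    apply Fin.ext
    show Nat.find hex = j + 1
    exact hj
  have hcast : H (⟨j, hjn⟩ : Fin n).castSucc ≠ ⊤ := by
    intro htop
    have : Nat.find hex ≤ j := Nat.find_min' hex ⟨by omega, htop⟩
    omega
  rw [hsucc] at hk₀top
  refine ⟨H (⟨j, hjn⟩ : Fin n).castSucc, hnorm _, hcast, ?_⟩
  have := hfac ⟨j, hjn⟩
  rw [hk₀top, Subgroup.relIndex_top_right] at this
  exact this

variable (P : Sylow p G) (hP : ¬ (P : Subgroup G).Normal)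
  (hab : ∀ a ∈ (P : Subgroup G), ∀ b ∈ (P : Subgroup G), a * b = b * a)

include hmin hP hab in
theorem le_center_of_normal_le (E : Subgroup G) [hE : E.Normal] (hEP : E ≤ (P : Subgroup G)) :
    E ≤ Subgroup.center G := by
  have hC : (Subgroup.centralizer (E : Set G)).Normal := Subgroup.normal_centralizer
  have hPC : (P : Subgroup G) ≤ Subgroup.centralizer (E : Set G) := by
    intro a ha
    rw [Subgroup.mem_centralizer_iff]
    intro e he
    exact hab e (hEP he) a ha
  by_cases htop : Subgroup.centralizer (E : Set G) = ⊤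
  · intro e he
    rw [Subgroup.mem_center_iff]
    intro g
    have h1 : g ∈ Subgroup.centralizer (E : Set G) := by rw [htop]; exact Subgroup.mem_top g
    rw [Subgroup.mem_centralizer_iff] at h1
    exact (h1 e he).symm
  · exact absurd (normal_of_le_normal_pclosed (hmin _ htop) P hPC) hP

include hmin hP hab in
theorem inf_le_center (N : Subgroup G) [hNn : N.Normal] (hN : N ≠ ⊤) :
    (P : Subgroup G) ⊓ N ≤ Subgroup.center G := by
  have hpc := hmin N hN
  obtain ⟨Q⟩ : Nonempty (Sylow p N) := inferInstance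
  have hQn := hpc Q
  haveI := Sylow.characteristic_of_normal Q hQn
  haveI : ((Q : Subgroup N).map N.subtype).Normal := ConjAct.normal_of_characteristic_of_normal
  have hEp : IsPGroup p ((Q : Subgroup N).map N.subtype) := Q.2.map N.subtype
  have hEP : (Q : Subgroup N).map N.subtype ≤ (P : Subgroup G) := hEp.le_sylow_of_normal P
  have hcen := le_center_of_normal_le hmin P hP hab _ hEP
  intro x hx
  apply hcen
  obtain ⟨hxP, hxN⟩ := hx
  obtain ⟨k, hk⟩ := (IsPGroup.iff_orderOf.mp P.2) ⟨x, hxP⟩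
  have hxk : x ^ p ^ k = 1 := by
    have h1 : orderOf x = p ^ k := by
      rw [← hk]
      exact (Subgroup.orderOf_mk x hxP).symm
    rw [← h1]
    exact pow_orderOf_eq_one x
  have hxQ : (⟨x, hxN⟩ : N) ∈ (Q : Subgroup N) := by
    haveI : Fintype N := Fintype.ofFinite N
    apply mem_sylow_of_mem_normalizer_of_pow Q _ (k := k)
    · apply Subtype.ext
      rw [Subgroup.coe_pow, Subgroup.coe_one]
      exact hxk
    · rw [Subgroup.normalizer_eq_top_iff.mpr hQn]
      exact Subgroup.mem_top _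
  exact ⟨⟨x, hxN⟩, hxQ, rfl⟩

include hmin hP hab in
theorem normalizer_le_centralizer (N : Subgroup G) [hNn : N.Normal] (hN : N ≠ ⊤) (m : ℕ)
    (hidx : N.index = p ^ m) :
    Subgroup.normalizer ((P : Subgroup G) : Set G) ≤
      Subgroup.centralizer ((P : Subgroup G) : Set G) := by
  have hpp : p.Prime := hp.out
  intro g hg
  rw [Subgroup.mem_centralizer_iff]
  intro x hx
  have ho : orderOf g ≠ 0 := (orderOf_pos g).ne'
  obtain ⟨e, r, hr, hor⟩ := Nat.exists_eq_pow_mul_and_not_dvd ho p hpp.ne_one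
  -- `g ^ r ∈ P`
  have h1 : g ^ r ∈ (P : Subgroup G) := by
    haveI : Fintype G := Fintype.ofFinite G
    apply mem_sylow_of_mem_normalizer_of_pow P (Subgroup.pow_mem _ hg r) (k := e)
    rw [← pow_mul, mul_comm, ← hor]
    exact pow_orderOf_eq_one g
  have hc1 : Commute (g ^ r) x := hab _ h1 _ hx
  -- `h = g ^ (p ^ (e + m)) ∈ N`
  have hhN : g ^ p ^ (e + m) ∈ N := by
    have h2 : g ^ p ^ m ∈ N := by
      rw [← hidx]
      exact Subgroup.pow_index_mem N g
    have h3 : g ^ p ^ (e + m) = (g ^ p ^ m) ^ p ^ e := by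
      rw [← pow_mul, ← pow_add, add_comm]
    rw [h3]
    exact N.pow_mem h2 _
  have hhr : (g ^ p ^ (e + m)) ^ r = 1 := by
    rw [← pow_mul]
    apply orderOf_dvd_iff_pow_eq_one.mp
    rw [hor, pow_add, mul_assoc, mul_comm (p ^ m) r, ← mul_assoc]
    exact dvd_mul_right _ _
  have hhnorm : g ^ p ^ (e + m) ∈ Subgroup.normalizer ((P : Subgroup G) : Set G) :=
    Subgroup.pow_mem _ hg _
  obtain ⟨h, hh⟩ : ∃ h, h = g ^ p ^ (e + m) := ⟨_, rfl⟩
  rw [← hh] at hhN hhr hhnorm
  have hcP : h * x * h⁻¹ * x⁻¹ ∈ (P : Subgroup G) :=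
    (P : Subgroup G).mul_mem ((Subgroup.mem_normalizer_iff.mp hhnorm x).mp hx)
      ((P : Subgroup G).inv_mem hx)
  have hcN : h * x * h⁻¹ * x⁻¹ ∈ N := by
    have : h * x * h⁻¹ * x⁻¹ = h * (x * h⁻¹ * x⁻¹) := by group
    rw [this]
    exact N.mul_mem hhN (hNn.conj_mem _ (N.inv_mem hhN) x)
  have hcZ : h * x * h⁻¹ * x⁻¹ ∈ Subgroup.center G :=
    inf_le_center hmin P hP hab N hN ⟨hcP, hcN⟩
  have hcx : h * x * h⁻¹ = (h * x * h⁻¹ * x⁻¹) * x := by group
  generalize h * x * h⁻¹ * x⁻¹ = c at hcP hcN hcZ hcx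
  have hconj : ∀ j : ℕ, h ^ j * x * (h ^ j)⁻¹ = c ^ j * x := by
    intro j
    induction j with
    | zero => simp
    | succ j ih =>
      have hcomm := (Subgroup.mem_center_iff.mp (Subgroup.pow_mem _ hcZ j)) h
      calc h ^ (j + 1) * x * (h ^ (j + 1))⁻¹ = h * (h ^ j * x * (h ^ j)⁻¹) * h⁻¹ := by
            rw [pow_succ']; group
        _ = h * (c ^ j * x) * h⁻¹ := by rw [ih]
        _ = (h * c ^ j) * x * h⁻¹ := by group
        _ = c ^ j * h * x * h⁻¹ := by rw [hcomm]
        _ = c ^ j * (h * x * h⁻¹) := by group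
        _ = c ^ (j + 1) * x := by rw [hcx, pow_succ]; group
  have hcr : c ^ r = 1 := by
    have h2 := hconj r
    rw [hhr] at h2
    have h3 : x = c ^ r * x := by simpa using h2
    calc c ^ r = (c ^ r * x) * x⁻¹ := by group
      _ = 1 := by rw [← h3]; group
  obtain ⟨j, hj⟩ := (IsPGroup.iff_orderOf.mp P.2) ⟨c, hcP⟩
  have hoc : orderOf c = p ^ j := by
    rw [← hj]
    exact (Subgroup.orderOf_mk c hcP).symm
  have hc1' : orderOf c ∣ r := orderOf_dvd_of_pow_eq_one hcr
  have hcop : Nat.Coprime r p := ((Nat.Prime.coprime_iff_not_dvd hpp).mpr hr).symm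
  have hone : orderOf c = 1 :=
    Nat.eq_one_of_dvd_coprimes (Nat.Coprime.pow_right j hcop) hc1' (hoc ▸ dvd_refl _)
  have hc_one : c = 1 := orderOf_eq_one_iff.mp hone
  have hc2 : Commute h x := by
    show h * x = x * h
    calc h * x = (h * x * h⁻¹) * h := by group
      _ = x * h := by rw [hcx, hc_one, one_mul]
  have hcop2 : Nat.gcd r (p ^ (e + m)) = 1 := Nat.Coprime.pow_right _ hcop
  have hbez := Nat.gcd_eq_gcd_ab r (p ^ (e + m))
  rw [hcop2] at hbez
  have hg' : g = (g ^ r) ^ (Nat.gcdA r (p ^ (e + m))) * h ^ (Nat.gcdB r (p ^ (e + m))) := by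
    rw [hh, ← zpow_natCast g r, ← zpow_natCast g (p ^ (e + m)), ← zpow_mul, ← zpow_mul,
      ← zpow_add, ← hbez]
    simp
  rw [hg']
  exact ((hc1.zpow_left _).mul_left (hc2.zpow_left _)).eq.symm

include hmin hP hab in
/-- The structure of a minimal non-`p`-closed `p`-solvable group with abelian Sylow
`p`-subgroup: `G = M ⟨y⟩` with `M` a normal `p'`-subgroup and `y` a non-central `p`-element. -/
theorem exists_setting (hsolv : IsPSolvable p G) :
    ∃ (M : Subgroup G) (y : G) (a : ℕ), M.Normal ∧ (Nat.card M).Coprime p ∧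
      (∀ g : G, ∃ k : ℕ, ∃ m₀ ∈ M, g = m₀ * y ^ k) ∧ orderOf y = p ^ a ∧ 1 ≤ a ∧
      (∃ m ∈ M, m * y ≠ y * m) := by
  have hpp : p.Prime := hp.out
  haveI : Nontrivial G := by
    by_contra hnt
    rw [not_nontrivial_iff_subsingleton] at hnt
    apply hP
    have : (P : Subgroup G) = ⊤ := Subsingleton.elim _ _
    rw [this]
    infer_instance
  obtain ⟨N, hNn, hN, hidx⟩ := exists_top_step (p := p) hsolv
  rcases hidx with ⟨m, hm⟩ | hcop
  · -- the `p`-power case
    have hNC := normalizer_le_centralizer hmin P hP hab N hN m hm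
    have hcompl := MonoidHom.ker_transferSylow_isComplement' P hNC
    have hcard := MonoidHom.not_dvd_card_ker_transferSylow P hNC
    obtain ⟨M, hM⟩ : ∃ M : Subgroup G, M = (MonoidHom.transferSylow P hNC).ker := ⟨_, rfl⟩
    rw [← hM] at hcompl hcard
    haveI hMn : M.Normal := by rw [hM]; infer_instance
    have hMcop : (Nat.card M).Coprime p :=
      ((Nat.Prime.coprime_iff_not_dvd hpp).mpr hcard).symm
    -- some element of `P` does not centralize `M`
    have hex : ∃ y ∈ (P : Subgroup G), ∃ m ∈ M, m * y ≠ y * m := by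
      by_contra hcon
      push Not at hcon
      apply hP
      rw [← Subgroup.normalizer_eq_top_iff, eq_top_iff, ← hcompl.sup_eq_top]
      apply sup_le
      · intro m hm
        rw [Subgroup.mem_normalizer_iff]
        intro x
        constructor
        · intro hx
          have : m * x * m⁻¹ = x := by rw [hcon x hx m hm]; group
          rw [this]; exact hx
        · intro hx
          have h1 := hcon _ hx m⁻¹ (M.inv_mem hm)
          have : x = m * x * m⁻¹ := by
            calc x = m⁻¹ * (m * x * m⁻¹) * m := by group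
              _ = (m * x * m⁻¹) * m⁻¹ * m := by rw [h1]
              _ = m * x * m⁻¹ := by group
          rw [this]; exact hx
      · exact Subgroup.le_normalizer
    obtain ⟨y, hyP, m₁, hm₁, hmy⟩ := hex
    obtain ⟨a, ha⟩ := (IsPGroup.iff_orderOf.mp P.2) ⟨y, hyP⟩
    have hya : orderOf y = p ^ a := by
      rw [← ha]
      exact (Subgroup.orderOf_mk y hyP).symm
    have hypow : y ^ p ^ a = 1 := by rw [← hya]; exact pow_orderOf_eq_one y
    have htop := sup_eq_top_of_not_comm hmin M hMcop y a hypow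
      (fun x hx => hMn.conj_mem x hx y) m₁ hm₁ hmy
    refine ⟨M, y, a, hMn, hMcop, ?_, hya, ?_, m₁, hm₁, hmy⟩
    · intro g
      have hg : g ∈ ((M ⊔ Subgroup.zpowers y : Subgroup G) : Set G) := by
        rw [htop]; exact Set.mem_univ g
      rw [Subgroup.normal_mul, Set.mem_mul] at hg
      obtain ⟨m₀, hm₀, z, hz, rfl⟩ := hg
      have hz' : z ∈ Submonoid.powers y := mem_powers_iff_mem_zpowers.mpr hz
      obtain ⟨k, rfl⟩ := (Submonoid.mem_powers_iff _ _).mp hz'
      exact ⟨k, m₀, hm₀, rfl⟩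
    · by_contra hlt
      have ha0 : a = 0 := by omega
      rw [ha0, pow_zero, orderOf_eq_one_iff] at hya
      apply hmy
      rw [hya, mul_one, one_mul]
  · -- the coprime case: `P ≤ N`
    exfalso
    apply hP
    apply normal_of_le_normal_pclosed (hmin N hN) P
    intro x hx
    obtain ⟨a, ha⟩ := (IsPGroup.iff_orderOf.mp P.2) ⟨x, hx⟩
    have hxa : orderOf x = p ^ a := by
      rw [← ha]
      exact (Subgroup.orderOf_mk x hx).symm
    have h1 : (N.index).Coprime (orderOf x) := by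
      rw [hxa]; exact Nat.Coprime.pow_right a hcop
    obtain ⟨j, hj⟩ := exists_pow_eq_self_of_coprime h1
    rw [← hj]
    exact N.pow_mem (Subgroup.pow_index_mem N x) j

end minimal

section qpart

variable {G : Type u} [Group G] [Finite G] {p : ℕ} [hp : Fact p.Prime]
  (M : Subgroup G) [hMn : M.Normal] (hM : (Nat.card M).Coprime p) (y : G) (a : ℕ)
  (hy : orderOf y = p ^ a)

include hM hy in
/-- a `y`-invariant Sylow `q`-subgroup of `M` -/
theorem exists_invariant_sylow (q : ℕ) [Fact q.Prime] :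
    ∃ Q : Sylow q M, ∀ x : M, (⟨y * x * y⁻¹, hMn.conj_mem x x.2 y⟩ : M) ∈ (Q : Subgroup M) ↔
      x ∈ (Q : Subgroup M) := by
  have hZp : IsPGroup p (Subgroup.zpowers (ConjAct.toConjAct y)) := by
    apply IsPGroup.of_card (n := a)
    rw [Nat.card_zpowers, ← hy]
    exact MulEquiv.orderOf_eq ConjAct.toConjAct y
  have hcard : ¬ p ∣ Nat.card (Sylow q M) := by
    intro hdvd
    obtain ⟨Q0⟩ : Nonempty (Sylow q M) := inferInstance
    have h1 : Nat.card (Sylow q M) ∣ (Q0 : Subgroup M).index := Sylow.card_dvd_index Q0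
    have h2 : (Q0 : Subgroup M).index ∣ Nat.card M := Subgroup.index_dvd_card _
    have := (hdvd.trans h1).trans h2
    exact (Nat.Prime.coprime_iff_not_dvd hp.out).mp hM.symm this
  obtain ⟨Q, hQ⟩ := hZp.nonempty_fixed_point_of_prime_not_dvd_card (Sylow q M) hcard
  refine ⟨Q, ?_⟩
  have hfix : (ConjAct.toConjAct y) • Q = Q :=
    hQ ⟨ConjAct.toConjAct y, Subgroup.mem_zpowers _⟩
  intro x
  have h1 : (ConjAct.toConjAct y • x) ∈ ((ConjAct.toConjAct y • Q : Sylow q M) : Subgroup M) ↔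
      x ∈ (Q : Subgroup M) := by
    rw [Sylow.pointwise_smul_def]
    exact Subgroup.smul_mem_pointwise_smul_iff
  rw [hfix] at h1
  rw [← h1]
  have h2 : ConjAct.toConjAct y • x = ⟨y * x * y⁻¹, hMn.conj_mem x x.2 y⟩ := by
    apply Subtype.ext
    rw [ConjAct.Subgroup.val_conj_smul, ConjAct.toConjAct_smul]
  rw [h2]

variable (hmin : ∀ K : Subgroup G, K ≠ ⊤ → PClosed p K)
  (hgen : ∀ g : G, ∃ k : ℕ, ∃ m₀ ∈ M, g = m₀ * y ^ k)

include hM hy in
/-- some `y`-invariant subgroup of prime power order of `M` is not centralized by `y` -/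
theorem exists_invariant_not_comm (hnc : ∃ m ∈ M, m * y ≠ y * m) :
    ∃ (q : ℕ) (A : Subgroup G), q.Prime ∧ IsPGroup q A ∧ A ≤ M ∧
      (∀ x : G, y * x * y⁻¹ ∈ A ↔ x ∈ A) ∧ ∃ x ∈ A, x * y ≠ y * x := by
  by_contra hcon
  push Not at hcon
  obtain ⟨m, hm, hmy⟩ := hnc
  apply hmy
  -- the centralizer of `y` in `M`
  have hM0 : Nat.card M ≠ 0 := Nat.card_pos.ne'
  have hC0 : Nat.card ((Subgroup.centralizer {y}).subgroupOf M) ≠ 0 := Nat.card_pos.ne'
  have hdvd : Nat.card M ∣ Nat.card ((Subgroup.centralizer {y}).subgroupOf M) := by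
    rw [← Nat.factorization_le_iff_dvd hM0 hC0]
    intro q
    by_cases hq : q.Prime
    · haveI : Fact q.Prime := ⟨hq⟩
      obtain ⟨Q, hQ⟩ := exists_invariant_sylow M hM y a hy q
      have hQC : (Q : Subgroup M) ≤ (Subgroup.centralizer {y}).subgroupOf M := by
        intro x hx
        rw [Subgroup.mem_subgroupOf, Subgroup.mem_centralizer_iff]
        intro z hz
        rw [Set.mem_singleton_iff] at hz
        rw [hz]
        have h1 := hcon q ((Q : Subgroup M).map M.subtype) hq (Q.2.map M.subtype)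
          (Subgroup.map_subtype_le _) ?_ (x : G) ⟨x, hx, rfl⟩
        · exact h1.symm
        · intro g
          constructor
          · rintro ⟨u, hu, hug⟩
            have hgM : g ∈ M := by
              have h2 : g = y⁻¹ * (y * g * y⁻¹) * y⁻¹⁻¹ := by group
              rw [h2]
              apply hMn.conj_mem
              rw [← hug]
              exact u.2
            refine ⟨⟨g, hgM⟩, ?_, rfl⟩
            show (⟨g, hgM⟩ : M) ∈ (Q : Subgroup M)
            rw [← hQ ⟨g, hgM⟩]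
            have : (⟨y * g * y⁻¹, hMn.conj_mem g hgM y⟩ : M) = u := Subtype.ext hug.symm
            simp only at this ⊢
            rw [this]
            exact hu
          · rintro ⟨u, hu, rfl⟩
            exact ⟨⟨y * u * y⁻¹, hMn.conj_mem u u.2 y⟩, (hQ u).mpr hu, rfl⟩
      have h3 : Nat.card (Q : Subgroup M) ∣ Nat.card ((Subgroup.centralizer {y}).subgroupOf M) :=
        Subgroup.card_dvd_of_le hQC
      rw [Sylow.card_eq_multiplicity] at h3
      exact (hq.pow_dvd_iff_le_factorization hC0).mp h3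
    · rw [Nat.factorization_eq_zero_of_not_prime _ hq]
      exact Nat.zero_le _
  have htop : (Subgroup.centralizer {y}).subgroupOf M = ⊤ := by
    apply Subgroup.eq_top_of_le_card
    exact Nat.le_of_dvd Nat.card_pos hdvd
  have hmC : (⟨m, hm⟩ : M) ∈ (Subgroup.centralizer {y}).subgroupOf M := by
    rw [htop]; exact Subgroup.mem_top _
  rw [Subgroup.mem_subgroupOf, Subgroup.mem_centralizer_iff] at hmC
  exact (hmC y rfl).symm

include hmin hM hy in
/-- the order of `G` in the basic configuration -/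
theorem card_eq_of_setting (hnc : ∃ m ∈ M, m * y ≠ y * m) :
    ∃ q b c : ℕ, q.Prime ∧ Nat.card G = q ^ b * p ^ c := by
  obtain ⟨q, A, hq, hAq, hAM, hAinv, x, hxA, hxy⟩ := exists_invariant_not_comm M hM y a hy hnc
  haveI : Fact q.Prime := ⟨hq⟩
  have hAcop : (Nat.card A).Coprime p :=
    Nat.Coprime.coprime_dvd_left (Subgroup.card_dvd_of_le hAM) hM
  have hypow : y ^ p ^ a = 1 := by rw [← hy]; exact pow_orderOf_eq_one y
  have htop := sup_eq_top_of_not_comm hmin A hAcop y a hypow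
    (fun x hx => (hAinv x).mpr hx) x hxA hxy
  haveI hAn : A.Normal := by
    rw [← Subgroup.normalizer_eq_top_iff, eq_top_iff, ← htop]
    apply sup_le Subgroup.le_normalizer
    rw [Subgroup.zpowers_le, Subgroup.mem_normalizer_iff]
    intro h
    exact (hAinv h).symm
  have hidx : A.index ∣ p ^ a := by
    rw [← Subgroup.relIndex_top_right, ← htop, Subgroup.relIndex_sup_left, ← hy,
      ← Nat.card_zpowers]
    exact Subgroup.relIndex_dvd_card _ _
  obtain ⟨c, -, hc⟩ := (Nat.dvd_prime_pow hp.out).mp hidx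
  obtain ⟨b, hb⟩ := IsPGroup.iff_card.mp hAq
  refine ⟨q, b, c, hq, ?_⟩
  rw [← Subgroup.card_mul_index A, hb, hc]

end qpart


end Cfsg.Agent.Helper15.Ito
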