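import Mathlib
import Cfsg.Agent.Lib.Helper15.Ito.Core
import Cfsg.Agent.Lib.Helper79.Inflation

set_option autoImplicit false
set_option linter.unusedSectionVars false
set_option linter.style.haveILetI false

/-!
# Itô's theorem for a group with a normal `p`-complement and cyclic Sylow `p`-subgroup

`G = M ⟨y⟩` with `M` a normal `p'`-subgroup and `y` a `p`-element that is not central.  Then a
faithful character of degree at most `p - 1` is irreducible of degree `p - 1`.
-/

namespace Cfsg.Agent.Helper15.Ito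

open Cfsg Cfsg.Agent.Helper81 Cfsg.Agent.Helper79 Cfsg.Agent.Helper74.Lin
open scoped ComplexConjugate

universe u

section setting

variable {G : Type u} [Group G] [Finite G] (p : ℕ) [hp : Fact p.Prime]
  (M : Subgroup G) [hMn : M.Normal] (hM : (Nat.card M).Coprime p) (y : G)
  (hgen : ∀ g : G, ∃ k : ℕ, ∃ m₀ ∈ M, g = m₀ * y ^ k)
  (a : ℕ) (hy : orderOf y = p ^ a)

include hM hy in
/-- `M ∩ ⟨y⟩ = 1` -/
theorem eq_one_of_mem_of_pow {x : G} (hxM : x ∈ M) (k : ℕ) (hx : x = y ^ k) : x = 1 := by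
  have h1 : orderOf x ∣ Nat.card M := by
    have := orderOf_dvd_natCard (⟨x, hxM⟩ : M)
    rwa [Subgroup.orderOf_mk] at this
  have h2 : orderOf x ∣ p ^ a := by
    rw [hx, ← hy]
    exact orderOf_pow_dvd k
  have h3 : (Nat.card M).Coprime (p ^ a) := Nat.Coprime.pow_right a hM
  have h4 : orderOf x = 1 := Nat.eq_one_of_dvd_coprimes h3 h1 h2
  exact orderOf_eq_one_iff.mp h4

include hgen in
theorem quot_gen (x : G ⧸ M) : x ∈ Subgroup.zpowers (QuotientGroup.mk y : G ⧸ M) := by
  obtain ⟨g, rfl⟩ := QuotientGroup.mk_surjective x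
  obtain ⟨k, m₀, hm₀, rfl⟩ := hgen g
  rw [Subgroup.mem_zpowers_iff]
  refine ⟨k, ?_⟩
  rw [QuotientGroup.mk_mul, (QuotientGroup.eq_one_iff m₀).mpr hm₀, one_mul]
  simp

include hM hy in
theorem quot_order : orderOf (QuotientGroup.mk y : G ⧸ M) = p ^ a := by
  apply Nat.dvd_antisymm
  · rw [← hy]
    exact orderOf_map_dvd (QuotientGroup.mk' M) y
  · rw [← hy]
    apply orderOf_dvd_of_pow_eq_one
    have h1 : (QuotientGroup.mk (y ^ orderOf (QuotientGroup.mk y : G ⧸ M)) : G ⧸ M) = 1 := by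
      rw [QuotientGroup.mk_pow, pow_orderOf_eq_one]
    have h2 : y ^ orderOf (QuotientGroup.mk y : G ⧸ M) ∈ M := (QuotientGroup.eq_one_iff _).mp h1
    exact eq_one_of_mem_of_pow p M hM y a hy h2 _ rfl

include hgen in
/-- commutators with `y` lie in `M` -/
theorem comm_mem (g : G) : g * y * g⁻¹ * y⁻¹ ∈ M := by
  rw [← QuotientGroup.eq_one_iff]
  obtain ⟨i, hi⟩ := Subgroup.mem_zpowers_iff.mp (quot_gen M y hgen (QuotientGroup.mk g))
  simp only [QuotientGroup.mk_mul, QuotientGroup.mk_inv]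
  rw [← hi]
  group

include hgen hM hy in
/-- linear characters of `G` trivial on `M` with prescribed value at `y` -/
theorem exists_hom (c : ℂˣ) (hc : c ^ (p ^ a) = 1) :
    ∃ φ : G →* ℂˣ, (∀ m₀ ∈ M, φ m₀ = 1) ∧ φ y = c := by
  have hdvd : orderOf c ∣ orderOf (QuotientGroup.mk y : G ⧸ M) := by
    rw [quot_order p M hM y a hy]
    exact orderOf_dvd_of_pow_eq_one hc
  refine ⟨(monoidHomOfForallMemZpowers (quot_gen M y hgen) hdvd).comp (QuotientGroup.mk' M),
    ?_, ?_⟩
  · intro m₀ hm₀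
    rw [MonoidHom.comp_apply, QuotientGroup.mk'_apply, (QuotientGroup.eq_one_iff m₀).mpr hm₀,
      map_one]
  · rw [MonoidHom.comp_apply, QuotientGroup.mk'_apply]
    exact monoidHomOfForallMemZpowers_apply_gen _ _

include hgen in
/-- the decomposition of an element commuting with `y` -/
theorem decomp_centralizer (g : G) (hg : g * y = y * g) :
    ∃ k : ℕ, ∃ m₀ ∈ M, g = m₀ * y ^ k ∧ m₀ * y = y * m₀ := by
  obtain ⟨k, m₀, hm₀, rfl⟩ := hgen g
  refine ⟨k, m₀, hm₀, rfl, ?_⟩
  have h1 : y ^ k * y = y * y ^ k := by rw [← pow_succ, ← pow_succ']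
  have h2 : m₀ * y ^ k * y = y * (m₀ * y ^ k) := hg
  have h3 : m₀ * y * y ^ k = y * m₀ * y ^ k := by
    calc m₀ * y * y ^ k = m₀ * (y * y ^ k) := by group
      _ = m₀ * (y ^ k * y) := by rw [h1]
      _ = m₀ * y ^ k * y := by group
      _ = y * (m₀ * y ^ k) := h2
      _ = y * m₀ * y ^ k := by group
  exact mul_right_cancel h3

include hgen hM hy in
/-- The trivial intersection property of the elements of `C_G(y)` outside the kernel of a linear
character `lam` trivial on `M` with `lam y` of order `p`. -/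
theorem ti_centralizer (lam : G →* ℂˣ) (hlamM : ∀ m₀ ∈ M, lam m₀ = 1)
    (hlamy : orderOf (lam y) = p)
    (x : G) (hx : x * y = y * x) (hlx : lam x ≠ 1) (g : G)
    (hgx : (g * x * g⁻¹) * y = y * (g * x * g⁻¹)) : g * y = y * g := by
  have hpp : p.Prime := hp.out
  haveI : Fintype G := Fintype.ofFinite G
  obtain ⟨k, m₀, hm₀, hxk, hm₀y⟩ := decomp_centralizer M y hgen x hx
  obtain ⟨k', m₁, hm₁, hxk', hm₁y⟩ := decomp_centralizer M y hgen (g * x * g⁻¹) hgx
  set m := Nat.card M with hm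
  -- `x ^ m = y ^ (k * m)`
  have hpowm : ∀ (m' : G) (j : ℕ), m' ∈ M → m' * y = y * m' → (m' * y ^ j) ^ m = y ^ (j * m) := by
    intro m' j hm' hc
    have hcomm : Commute m' (y ^ j) := (Commute.pow_right (show Commute m' y from hc) j)
    rw [hcomm.mul_pow, ← pow_mul]
    have : m' ^ m = 1 := by
      have h0 : (⟨m', hm'⟩ : M) ^ Nat.card M = 1 := pow_card_eq_one'
      have h' := congrArg Subtype.val h0
      rw [Subgroup.coe_pow, Subgroup.coe_one] at h'
      exact h'
    rw [this, one_mul]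
  have hx1 : x ^ m = y ^ (k * m) := by rw [hxk]; exact hpowm m₀ k hm₀ hm₀y
  have hx2 : (g * x * g⁻¹) ^ m = y ^ (k' * m) := by
    rw [hxk']; exact hpowm m₁ k' hm₁ hm₁y
  -- `p ∤ k`
  have hpk : ¬ p ∣ k := by
    intro hdvd
    apply hlx
    rw [hxk, map_mul, hlamM m₀ hm₀, one_mul, map_pow]
    obtain ⟨t, rfl⟩ := hdvd
    rw [pow_mul, ← hlamy, pow_orderOf_eq_one, one_pow]
  have hcop : Nat.Coprime (k * m) (p ^ a) := by
    apply Nat.Coprime.pow_right
    apply Nat.Coprime.mul_left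
    · exact (Nat.Coprime.symm ((Nat.Prime.coprime_iff_not_dvd hpp).mpr hpk))
    · exact hM
  -- `y` is a power of `x ^ m`
  obtain ⟨t, ht⟩ : ∃ t : ℕ, (x ^ m) ^ t = y := by
    rw [hx1]
    have hcop' : Nat.Coprime (k * m) (orderOf y) := by rw [hy]; exact hcop
    exact exists_pow_eq_self_of_coprime hcop'
  -- conjugate
  have hconj : g * y * g⁻¹ = y ^ (k' * m * t) := by
    have e : g * y * g⁻¹ = g * (x ^ m) ^ t * g⁻¹ := by rw [ht]
    rw [e, ← conj_pow, ← conj_pow, hx2, ← pow_mul]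
  -- the commutator lies in `M ∩ ⟨y⟩`
  have hc1 := comm_mem M y hgen g
  have hc2 : g * y * g⁻¹ * y⁻¹ = 1 := by
    -- it is a power of `y`
    have hzp : g * y * g⁻¹ * y⁻¹ ∈ Subgroup.zpowers y := by
      rw [hconj]
      exact Subgroup.mul_mem _ (Subgroup.pow_mem _ (Subgroup.mem_zpowers y) _)
        (Subgroup.inv_mem _ (Subgroup.mem_zpowers y))
    obtain ⟨j, hj⟩ := (Subgroup.mem_zpowers_iff.mp hzp)
    -- turn the integer power into a natural power
    have hfin : IsOfFinOrder y := isOfFinOrder_of_finite y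
    obtain ⟨j', hj'⟩ : ∃ j' : ℕ, y ^ j' = y ^ j := by
      refine ⟨(j % (orderOf y : ℤ)).toNat, ?_⟩
      have hpos : (0 : ℤ) < orderOf y := by exact_mod_cast hfin.orderOf_pos
      have h1 : ((j % (orderOf y : ℤ)).toNat : ℤ) = j % (orderOf y : ℤ) :=
        Int.toNat_of_nonneg (Int.emod_nonneg _ hpos.ne')
      rw [← zpow_natCast, h1, zpow_mod_orderOf]
    exact eq_one_of_mem_of_pow p M hM y a hy hc1 j' (by rw [hj', hj])
  calc g * y = (g * y * g⁻¹ * y⁻¹) * (y * g) := by group
    _ = y * g := by rw [hc2, one_mul]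

/-- a complex unit of order `p` -/
theorem exists_unit_order (p : ℕ) (hp : p.Prime) : ∃ ζ : ℂˣ, orderOf ζ = p := by
  have h := Complex.isPrimitiveRoot_exp p hp.ne_zero
  refine ⟨Units.mk0 _ (Complex.exp_ne_zero (2 * Real.pi * Complex.I / p)), ?_⟩
  rw [← orderOf_units]
  exact h.eq_orderOf.symm

include hgen hM hy in
/-- the alternative for irreducible characters of small degree -/
theorem irr_alternative (ha : 1 ≤ a) (χ : IrrCharacter G)
    (hdeg : charDegree (χ : G → ℂ) ≤ p - 1) :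
    charDegree (χ : G → ℂ) = p - 1 ∨
      ∀ g : G, (χ : G → ℂ) (g * y * g⁻¹ * y⁻¹) = (χ : G → ℂ) 1 := by
  classical
  have hpp : p.Prime := hp.out
  haveI : Fintype G := Fintype.ofFinite G
  obtain ⟨ζ, hζ⟩ := exists_unit_order p hpp
  have hζp : ζ ^ p = 1 := by rw [← hζ]; exact pow_orderOf_eq_one ζ
  have hζpa : ζ ^ (p ^ a) = 1 := by
    obtain ⟨b, rfl⟩ : ∃ b, a = b + 1 := ⟨a - 1, by omega⟩
    rw [pow_succ', pow_mul, hζp, one_pow]
  obtain ⟨lam, hlamM, hlamy⟩ := exists_hom p M hM y hgen a hy ζ hζpa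
  have hlam : ∀ g, lam g ^ p = 1 := by
    intro g
    obtain ⟨k, m₀, hm₀, rfl⟩ := hgen g
    rw [map_mul, hlamM m₀ hm₀, one_mul, map_pow, hlamy, ← pow_mul, mul_comm, pow_mul, hζp,
      one_pow]
  have hζ1 : ζ ≠ 1 := by
    intro h
    rw [h, orderOf_one] at hζ
    exact hpp.one_lt.ne hζ
  set H : Subgroup G := Subgroup.centralizer {y} with hH
  have hmemH : ∀ h : G, h ∈ H ↔ h * y = y * h := by
    intro h
    rw [hH, Subgroup.mem_centralizer_iff]
    constructor
    · intro hh
      exact (hh y rfl).symm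
    · intro hh z hz
      rw [Set.mem_singleton_iff] at hz
      rw [hz]; exact hh.symm
  have hyH : y ∈ H := (hmemH y).mpr rfl
  have hres := core p H lam hlam y hyH (fun h hh => (hmemH h).mp hh) (by rw [hlamy]; exact hζ1)
    (by
      intro x hx hlx g hgx
      rw [hmemH] at hx hgx ⊢
      exact ti_centralizer p M hM y hgen a hy lam hlamM (by rw [hlamy]; exact hζ) x hx hlx g hgx)
    χ hdeg
  rcases hres with h1 | h2
  · left; exact h1
  · right
    haveI : Fintype H := Fintype.ofFinite H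
    set Θ : IrrCharacter H := ⟨_, h2⟩ with hΘ
    have hz : (⟨y, hyH⟩ : H) ∈ Subgroup.center H := by
      rw [Subgroup.mem_center_iff]
      intro g
      apply Subtype.ext
      exact (hmemH g).mp g.2
    obtain ⟨c, hc1, hc2⟩ := irr_central_scalar Θ _ hz
    have hypa : y ^ (p ^ a) = 1 := by rw [← hy]; exact pow_orderOf_eq_one y
    have hcpa : c ^ (p ^ a) = 1 := by
      apply hc2
      apply Subtype.ext
      rw [Subgroup.coe_pow, Subgroup.coe_one]
      exact hypa
    have hc0 : c ≠ 0 := by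
      intro h0
      rw [h0, zero_pow (pow_pos hpp.pos a).ne'] at hcpa
      exact zero_ne_one hcpa
    have hχy : (χ : G → ℂ) y = c * (χ : G → ℂ) 1 := by
      have := hc1 1
      rw [one_mul] at this
      exact this
    have hcu : (Units.mk0 c hc0)⁻¹ ^ (p ^ a) = 1 := by
      rw [inv_pow, inv_eq_one]
      apply Units.ext
      rw [Units.val_pow_eq_pow_val]
      exact hcpa
    obtain ⟨φ, hφM, hφy⟩ := exists_hom p M hM y hgen a hy _ hcu
    set χ' : IrrCharacter G := twistIrr φ χ with hχ'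
    have h1' : (χ' : G → ℂ) 1 = (χ : G → ℂ) 1 := by
      rw [hχ', twistIrr_apply, map_one]; simp
    have hyker : y ∈ irrKer χ' := by
      rw [mem_irrKer, h1', hχ', twistIrr_apply, hφy, hχy]
      simp only [Units.val_inv_eq_inv_val, Units.val_mk0]
      field_simp
    intro g
    have hmem : g * y * g⁻¹ * y⁻¹ ∈ irrKer χ' := by
      apply Subgroup.mul_mem
      · exact Subgroup.Normal.conj_mem inferInstance y hyker g
      · exact Subgroup.inv_mem _ hyker
    rw [mem_irrKer, h1', hχ', twistIrr_apply] at hmem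
    have hφ1 : φ (g * y * g⁻¹ * y⁻¹) = 1 := by
      simp only [map_mul, map_inv]
      rw [mul_comm (φ g) (φ y), mul_assoc (φ y), mul_inv_cancel, mul_one, mul_inv_cancel]
    rw [hφ1] at hmem
    simpa using hmem

include hgen hM hy in
/-- **Itô's theorem** in the basic configuration. -/
theorem setting_main (ha : 1 ≤ a) (hync : ∃ g : G, g * y ≠ y * g)
    (ψ : G → ℂ) (hψ : IsCharacter G ψ) (hfaith : ∀ g : G, ψ g = ψ 1 → g = 1)
    (hdeg : charDegree ψ ≤ p - 1) : charDegree ψ = p - 1 ∧ IsIrrCharacter G ψ := by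
  classical
  have hpp : p.Prime := hp.out
  haveI : Fintype G := Fintype.ofFinite G
  haveI : Finite (IrrCharacter G) := Cfsg.Agent.Helper81.irr_finite
  haveI : Fintype (IrrCharacter G) := Fintype.ofFinite _
  obtain ⟨m, hm⟩ := exists_nat_decomp hψ
  have hval : ∀ g : G, ψ g = ∑ χ : IrrCharacter G, (m χ : ℂ) * (χ : G → ℂ) g := by
    intro g
    have := congrFun hm g
    simpa [Finset.sum_apply] using this
  have hdegsum : charDegree ψ = ∑ χ : IrrCharacter G, m χ * charDegree (χ : G → ℂ) := by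
    have h1 : ψ 1 = ((∑ χ : IrrCharacter G, m χ * charDegree (χ : G → ℂ) : ℕ) : ℂ) := by
      rw [hval 1]
      push_cast
      apply Finset.sum_congr rfl
      intro χ _
      rw [(irr_one_eq χ).1]
    have hcd : ∀ k : ℕ, ψ 1 = (k : ℂ) → charDegree ψ = k := by
      intro k hk
      unfold charDegree
      rw [hk]
      simp
    exact hcd _ h1
  have hle : ∀ χ : IrrCharacter G, m χ ≠ 0 → charDegree (χ : G → ℂ) ≤ charDegree ψ := by
    intro χ hχ
    rw [hdegsum]
    have h1 : m χ * charDegree (χ : G → ℂ) ≤ ∑ χ : IrrCharacter G, m χ * charDegree (χ : G → ℂ) :=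
      Finset.single_le_sum (f := fun χ : IrrCharacter G => m χ * charDegree (χ : G → ℂ))
        (fun _ _ => Nat.zero_le _) (Finset.mem_univ χ)
    have h2 : 1 ≤ m χ := Nat.one_le_iff_ne_zero.mpr hχ
    calc charDegree (χ : G → ℂ) = 1 * charDegree (χ : G → ℂ) := (one_mul _).symm
      _ ≤ m χ * charDegree (χ : G → ℂ) := Nat.mul_le_mul_right _ h2
      _ ≤ _ := h1
  -- some constituent has degree `p - 1`
  have hex : ∃ χ₀ : IrrCharacter G, m χ₀ ≠ 0 ∧ charDegree (χ₀ : G → ℂ) = p - 1 := by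
    by_contra hcon
    push Not at hcon
    obtain ⟨g, hg⟩ := hync
    apply hg
    have hall : ∀ χ : IrrCharacter G, m χ ≠ 0 →
        (χ : G → ℂ) (g * y * g⁻¹ * y⁻¹) = (χ : G → ℂ) 1 := by
      intro χ hχ
      rcases irr_alternative p M hM y hgen a hy ha χ ((hle χ hχ).trans hdeg) with h | h
      · exact absurd h (hcon χ hχ)
      · exact h g
    have h1 : ψ (g * y * g⁻¹ * y⁻¹) = ψ 1 := by
      rw [hval, hval]
      apply Finset.sum_congr rfl
      intro χ _
      by_cases hχ : m χ = 0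
      · rw [hχ]; simp
      · rw [hall χ hχ]
    have h2 := hfaith _ h1
    calc g * y = (g * y * g⁻¹ * y⁻¹) * (y * g) := by group
      _ = y * g := by rw [h2, one_mul]
  obtain ⟨χ₀, hm₀, hd₀⟩ := hex
  have hp1 : 1 ≤ p - 1 := by have := hpp.two_le; omega
  -- split the degree sum
  have hsplit := Finset.add_sum_erase Finset.univ
    (fun χ : IrrCharacter G => m χ * charDegree (χ : G → ℂ)) (Finset.mem_univ χ₀)
  rw [← hdegsum, hd₀] at hsplit
  have hm1 : 1 ≤ m χ₀ := Nat.one_le_iff_ne_zero.mpr hm₀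
  have hm₀1 : m χ₀ = 1 := by
    by_contra hne
    have h2 : 2 ≤ m χ₀ := by omega
    have : 2 * (p - 1) ≤ m χ₀ * (p - 1) := Nat.mul_le_mul_right _ h2
    omega
  rw [hm₀1, one_mul] at hsplit
  have hrest : ∑ χ ∈ Finset.univ.erase χ₀, m χ * charDegree (χ : G → ℂ) = 0 := by omega
  refine ⟨by omega, ?_⟩
  have hψχ : ψ = (χ₀ : G → ℂ) := by
    funext g
    rw [hval g, Finset.sum_eq_single χ₀]
    · rw [hm₀1]; simp
    · intro χ _ hne
      have h1 := (Finset.sum_eq_zero_iff.mp hrest) χ (Finset.mem_erase.mpr ⟨hne, Finset.mem_univ _⟩)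
      have h2 : m χ = 0 := by
        rcases Nat.mul_eq_zero.mp h1 with h | h
        · exact h
        · exact absurd h (irr_one_eq χ).2.ne'
      rw [h2]; simp
    · intro h; exact absurd (Finset.mem_univ _) h
  rw [hψχ]
  exact χ₀.2

end setting

end Cfsg.Agent.Helper15.Ito
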