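import Mathlib
import Cfsg.Agent.Lib.Helper15.Ito.Setting
import Cfsg.Agent.Lib.Helper15.Ito.PClosed
import Cfsg.Agent.Lib.Helper76.ClassSize
import Cfsg.Agent.Lib.Helper81.CharProd
import Cfsg.Agent.Lib.Helper79.Integrality
import Cfsg.Agent.S0186

set_option autoImplicit false
set_option linter.unusedSectionVars false
set_option linter.style.haveILetI false

/-!
# Itô's theorem on `p`-solvable linear groups of small degree
-/

namespace Cfsg.Agent.Helper15.Ito

open Cfsg Cfsg.Agent.Helper81 Cfsg.Agent.Helper79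
open scoped ComplexConjugate commutatorElement

universe u

section chars

variable {G : Type u} [Group G] [Finite G]

/-- the decomposition of a character, with degree bookkeeping -/
theorem decomp_data [Fintype (IrrCharacter G)] {ψ : G → ℂ} (hψ : IsCharacter G ψ) :
    ∃ m : IrrCharacter G → ℕ, (∀ g, ψ g = ∑ χ, (m χ : ℂ) * (χ : G → ℂ) g) ∧
      charDegree ψ = ∑ χ, m χ * charDegree (χ : G → ℂ) ∧
      ∀ χ, m χ ≠ 0 → charDegree (χ : G → ℂ) ≤ charDegree ψ := by
  classical
  haveI : Fintype G := Fintype.ofFinite G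
  obtain ⟨m, hm⟩ := exists_nat_decomp hψ
  have hval : ∀ g : G, ψ g = ∑ χ : IrrCharacter G, (m χ : ℂ) * (χ : G → ℂ) g := by
    intro g
    have := congrFun hm g
    simpa [Finset.sum_apply] using this
  have hdegsum : charDegree ψ = ∑ χ : IrrCharacter G, m χ * charDegree (χ : G → ℂ) := by
    have h1 : ψ 1 = ((∑ χ : IrrCharacter G, m χ * charDegree (χ : G → ℂ) : ℕ) : ℂ) := by
      rw [hval 1]
      push_cast
      apply Finset.sum_congr rfl
      intro χ _
      rw [(irr_one_eq χ).1]
    have hcd : ∀ k : ℕ, ψ 1 = (k : ℂ) → charDegree ψ = k := by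
      intro k hk
      unfold charDegree
      rw [hk]
      simp
    exact hcd _ h1
  refine ⟨m, hval, hdegsum, ?_⟩
  intro χ hχ
  rw [hdegsum]
  have h1 : m χ * charDegree (χ : G → ℂ) ≤ ∑ χ : IrrCharacter G, m χ * charDegree (χ : G → ℂ) :=
    Finset.single_le_sum (f := fun χ : IrrCharacter G => m χ * charDegree (χ : G → ℂ))
      (fun _ _ => Nat.zero_le _) (Finset.mem_univ χ)
  have h2 : 1 ≤ m χ := Nat.one_le_iff_ne_zero.mpr hχ
  calc charDegree (χ : G → ℂ) = 1 * charDegree (χ : G → ℂ) := (one_mul _).symm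
    _ ≤ m χ * charDegree (χ : G → ℂ) := Nat.mul_le_mul_right _ h2
    _ ≤ _ := h1

/-- a character vanishing at `1` is zero -/
theorem character_eq_zero_of_one {α : G → ℂ} (hα : IsCharacter G α) (h1 : α 1 = 0) : α = 0 := by
  classical
  haveI : Fintype G := Fintype.ofFinite G
  haveI : Finite (IrrCharacter G) := Cfsg.Agent.Helper81.irr_finite
  haveI : Fintype (IrrCharacter G) := Fintype.ofFinite _
  obtain ⟨m, hval, hdeg, -⟩ := decomp_data hα
  have h2 : charDegree α = 0 := by
    unfold charDegree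
    rw [h1]
    simp
  rw [h2] at hdeg
  have h3 : ∀ χ : IrrCharacter G, m χ = 0 := by
    intro χ
    have h4 := (Finset.sum_eq_zero_iff.mp hdeg.symm) χ (Finset.mem_univ χ)
    rcases Nat.mul_eq_zero.mp h4 with h | h
    · exact h
    · exact absurd h (irr_one_eq χ).2.ne'
  ext g
  rw [hval g]
  simp [h3]

/-- a character whose restriction to a subgroup is irreducible is irreducible -/
theorem isIrr_of_restrict (K : Subgroup G) {χ : G → ℂ} (hχ : IsCharacter G χ)
    (hK : IsIrrCharacter K (fun k : K => χ k)) : IsIrrCharacter G χ := by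
  classical
  haveI : Fintype G := Fintype.ofFinite G
  haveI : Fintype K := Fintype.ofFinite K
  have hχ0 : χ ≠ 0 := by
    intro h0
    have h1 := irr_one_ne_zero ⟨_, hK⟩
    apply h1
    show χ ((1 : K) : G) = 0
    rw [h0]
    rfl
  obtain ⟨β, hβ, hβc⟩ := exists_irr_constituent hχ hχ0
  obtain ⟨α', hα', hsplit⟩ := exists_add_of_classInner_ne_zero hχ hβ hβc
  have hβK : IsCharacter K (fun k : K => β k) :=
    isCharacter_restrict K (IsIrrCharacter.isCharacter hβ)
  have hαK : IsCharacter K (fun k : K => α' k) := isCharacter_restrict K hα'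
  obtain ⟨a, ha⟩ := exists_nat_classInner_char hβK hβK
  obtain ⟨k, hk⟩ := exists_nat_classInner_char hαK hβK
  obtain ⟨k', hk'⟩ := exists_nat_classInner_char hαK hαK
  have hres : (fun k : K => χ k) = (fun k : K => β k) + (fun k : K => α' k) := by
    ext k
    rw [hsplit]
    rfl
  have h1 : classInner (fun k : K => χ k) (fun k : K => χ k) = 1 := by
    rw [irr_orthonormal hK hK, if_pos rfl]
  have h2 : classInner (fun k : K => χ k) (fun k : K => χ k) =
      (a : ℂ) + (k : ℂ) + (k : ℂ) + (k' : ℂ) := by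
    rw [hres, classInner_add_left, classInner_add_right, classInner_add_right, ha, hk, hk',
      classInner_conj_symm (fun k : K => α' k) (fun k : K => β k), hk]
    simp
    ring
  rw [h1] at h2
  have h3 : 1 = a + k + k + k' := by exact_mod_cast h2
  have ha0 : a ≠ 0 := by
    intro h0
    rw [h0] at ha
    have h4 : (fun k : K => β k) = 0 := classInner_self_eq_zero (by simpa using ha)
    have h5 := irr_one_ne_zero ⟨β, hβ⟩
    apply h5
    have := congrFun h4 1
    simpa using this
  have hk'0 : k' = 0 := by omega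
  rw [hk'0] at hk'
  have h6 : (fun k : K => α' k) = 0 := classInner_self_eq_zero (by simpa using hk')
  have h7 : α' 1 = 0 := by
    have := congrFun h6 1
    simpa using this
  have h8 : α' = 0 := character_eq_zero_of_one hα' h7
  rw [hsplit, h8, add_zero]
  exact hβ

/-- a group with a faithful character of degree less than `p` has abelian Sylow
`p`-subgroups -/
theorem sylow_abelian_of_faithful (p : ℕ) [Fact p.Prime] {χ : G → ℂ} (hχ : IsCharacter G χ)
    (hfaith : ∀ g : G, χ g = χ 1 → g = 1) (hdeg : charDegree χ < p) (P : Sylow p G) :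
    ∀ a ∈ (P : Subgroup G), ∀ b ∈ (P : Subgroup G), a * b = b * a := by
  classical
  haveI : Fintype G := Fintype.ofFinite G
  haveI : Finite (IrrCharacter G) := Cfsg.Agent.Helper81.irr_finite
  haveI : Fintype (IrrCharacter G) := Fintype.ofFinite _
  obtain ⟨m, hval, -, hle⟩ := decomp_data hχ
  intro a ha b hb
  have hx : ⁅(⟨a, ha⟩ : (P : Subgroup G)), (⟨b, hb⟩ : (P : Subgroup G))⁆ ∈
      commutator (P : Subgroup G) :=
    Subgroup.commutator_mem_commutator (Subgroup.mem_top _) (Subgroup.mem_top _)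
  have h1 : χ ((⁅(⟨a, ha⟩ : (P : Subgroup G)), (⟨b, hb⟩ : (P : Subgroup G))⁆ :
      (P : Subgroup G)) : G) = χ 1 := by
    rw [hval, hval]
    apply Finset.sum_congr rfl
    intro ψ _
    by_cases hψ : m ψ = 0
    · rw [hψ]; simp
    · rw [Cfsg.Agent.S0186.apply_commutator_of_degree_lt p (P : Subgroup G) P.2 ψ
        (lt_of_le_of_lt (hle ψ hψ) hdeg) _ hx]
  have h2 := hfaith _ h1
  have h3 : ⁅a, b⁆ = 1 := by
    simpa [commutatorElement_def] using h2
  exact commutatorElement_eq_one_iff_mul_comm.1 h3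

end chars

/-- arithmetic: `n + 1 = p`, `n ∣ q ^ b * p ^ c` implies `n` is a power of two -/
theorem two_pow_of_dvd {n p q b c : ℕ} (hp : p.Prime) (hq : q.Prime) (hnp : n + 1 = p)
    (hdvd : n ∣ q ^ b * p ^ c) : ∃ k : ℕ, n = 2 ^ k := by
  have hcop : Nat.Coprime n p := by
    rw [← hnp]
    simp
  have h1 : n ∣ q ^ b := (Nat.Coprime.pow_right c hcop).dvd_of_dvd_mul_right hdvd
  obtain ⟨j, -, hj⟩ := (Nat.dvd_prime_pow hq).mp h1
  rcases hp.eq_two_or_odd' with h2 | hodd
  · refine ⟨0, ?_⟩
    omega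
  · have heven : 2 ∣ n := by
      obtain ⟨t, ht⟩ := hodd
      omega
    rw [hj] at heven
    have h3 : 2 ∣ q := Nat.Prime.dvd_of_dvd_pow Nat.prime_two heven
    have h4 : 2 = q := (Nat.prime_dvd_prime_iff_eq Nat.prime_two hq).mp h3
    exact ⟨j, by rw [hj, h4]⟩

/-- **Itô's theorem**, by induction on the order of the group. -/
theorem ito_main (p : ℕ) [hp : Fact p.Prime] : ∀ (N : ℕ) (G : Type u) [Group G] [Finite G],
    Nat.card G = N → IsPSolvable p G → ∀ χ : G → ℂ, IsCharacter G χ →
    (∀ g : G, χ g = χ 1 → g = 1) → charDegree χ + 1 ≤ p → ∀ P : Sylow p G,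
    ¬ (P : Subgroup G).Normal →
    charDegree χ + 1 = p ∧ (∃ k : ℕ, charDegree χ = 2 ^ k) ∧ IsIrrCharacter G χ := by
  intro N
  induction N using Nat.strong_induction_on with
  | _ N ih =>
  intro G _ _ hcard hsolv χ hχ hfaith hdeg P hP
  have hpp : p.Prime := hp.out
  by_cases hmin : ∀ K : Subgroup G, K ≠ ⊤ → PClosed p K
  · -- the minimal case
    have hab := sylow_abelian_of_faithful p hχ hfaith (by omega) P
    obtain ⟨M, y, a, hMn, hMcop, hgen, hya, ha1, m, hmM, hmy⟩ :=
      exists_setting hmin P hP hab hsolv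
    haveI := hMn
    obtain ⟨h1, h2⟩ := setting_main p M hMcop y hgen a hya ha1 ⟨m, hmy⟩ χ hχ hfaith (by omega)
    have hp1 : 1 ≤ p := hpp.one_le
    have hnp : charDegree χ + 1 = p := by omega
    refine ⟨hnp, ?_, h2⟩
    obtain ⟨q, b, c, hq, hGc⟩ := card_eq_of_setting M hMcop y a hya hmin ⟨m, hmM, hmy⟩
    have hdvd : charDegree χ ∣ Nat.card G := irr_degree_dvd_card ⟨χ, h2⟩
    rw [hGc] at hdvd
    exact two_pow_of_dvd hpp hq hnp hdvd
  · push Not at hmin
    obtain ⟨K, hKtop, hKnot⟩ := hmin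
    unfold PClosed at hKnot
    push Not at hKnot
    obtain ⟨Q, hQ⟩ := hKnot
    have hlt : Nat.card K < N := hcard ▸ Cfsg.Agent.Helper76.card_subgroup_lt_of_ne_top K hKtop
    have hres := isCharacter_restrict K hχ
    have hdegK : charDegree (fun k : K => χ k) = charDegree χ := rfl
    have hfaithK : ∀ g : K, (fun k : K => χ k) g = (fun k : K => χ k) 1 → g = 1 := by
      intro g hg
      exact Subtype.ext (hfaith g hg)
    obtain ⟨h1, h2, h3⟩ := ih (Nat.card K) hlt K rfl
      (Cfsg.Agent.Helper76.IsPSolvable.subgroup hsolv K) (fun k : K => χ k) hres hfaithK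
      (by rw [hdegK]; exact hdeg) Q hQ
    rw [hdegK] at h1 h2
    exact ⟨h1, h2, isIrr_of_restrict K hχ h3⟩

end Cfsg.Agent.Helper15.Ito
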