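import Mathlib
import Cfsg.Agent.Lib.Helper15.Ito.Main
import Cfsg.Agent.Lib.Helper79.CharBasic
import Cfsg.Agent.S0898
import Cfsg.Agent.S4485

set_option autoImplicit false
set_option linter.unusedSectionVars false
set_option linter.style.haveILetI false

/-!
# Linear groups of degree small compared with `p` have normal Sylow `p`-subgroups
-/

namespace Cfsg.Agent.Helper15.Ito

open Cfsg Cfsg.Agent.Helper81 Cfsg.Agent.Helper79
open scoped ComplexConjugate Pointwise

universe u

section transport

/-- normality of Sylow subgroups is transported along isomorphisms -/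
theorem sylow_normal_of_equiv {H K : Type*} [Group H] [Group K] [Finite H] {p : ℕ}
    [Fact p.Prime] (e : H ≃* K) (hK : ∀ Q' : Sylow p K, (Q' : Subgroup K).Normal)
    (Q : Sylow p H) : (Q : Subgroup H).Normal := by
  have h1 : ((Q : Subgroup H).map e.toMonoidHom).Normal :=
    hK (Q.mapSurjective (f := e.toMonoidHom) e.surjective)
  have h2 : ((Q : Subgroup H).map e.toMonoidHom).comap e.toMonoidHom = Q :=
    Subgroup.comap_map_eq_self_of_injective e.injective _
  rw [← h2]
  exact h1.comap _

end transport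

section minimal2

variable {G : Type u} [Group G] [Finite G] {p : ℕ} [hp : Fact p.Prime]
  (hmin : ∀ K : Subgroup G, K ≠ ⊤ → PClosed p K)
  (hab : ∀ Q : Sylow p G, ∀ a ∈ (Q : Subgroup G), ∀ b ∈ (Q : Subgroup G), a * b = b * a)

include hmin hab in
/-- two distinct Sylow subgroups intersect in the centre -/
theorem sylow_inf_le_center (P Q : Sylow p G) (hPQ : P ≠ Q) :
    (P : Subgroup G) ⊓ Q ≤ Subgroup.center G := by
  by_cases htop : Subgroup.centralizer (((P : Subgroup G) ⊓ Q : Subgroup G) : Set G) = ⊤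
  · intro e he
    rw [Subgroup.mem_center_iff]
    intro g
    have h1 : g ∈ Subgroup.centralizer (((P : Subgroup G) ⊓ Q : Subgroup G) : Set G) := by
      rw [htop]; exact Subgroup.mem_top g
    rw [Subgroup.mem_centralizer_iff] at h1
    exact (h1 e he).symm
  · exfalso
    apply hPQ
    have hpc := hmin _ htop
    have hPC : (P : Subgroup G) ≤
        Subgroup.centralizer (((P : Subgroup G) ⊓ Q : Subgroup G) : Set G) := by
      intro a ha
      rw [Subgroup.mem_centralizer_iff]
      intro e he
      exact hab P e he.1 a ha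
    have hQC : (Q : Subgroup G) ≤
        Subgroup.centralizer (((P : Subgroup G) ⊓ Q : Subgroup G) : Set G) := by
      intro a ha
      rw [Subgroup.mem_centralizer_iff]
      intro e he
      exact hab Q e he.2 a ha
    have hQP : (Q : Subgroup G) ≤ P := by
      intro x hx
      obtain ⟨k, hk⟩ := (IsPGroup.iff_orderOf.mp Q.2) ⟨x, hx⟩
      have hxk : x ^ p ^ k = 1 := by
        have h1 : orderOf x = p ^ k := by
          rw [← hk]
          exact (Subgroup.orderOf_mk x hx).symm
        rw [← h1]
        exact pow_orderOf_eq_one x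
      exact mem_of_pclosed hpc P hPC (hQC hx) hxk
    exact Sylow.ext (Q.3 P.2 hQP)

theorem exists_other_sylow (P : Sylow p G) (hP : ¬ (P : Subgroup G).Normal) :
    ∃ Q : Sylow p G, P ≠ Q := by
  by_contra hcon
  push Not at hcon
  apply hP
  haveI : Subsingleton (Sylow p G) := ⟨fun a b => (hcon a).symm.trans (hcon b)⟩
  exact Sylow.normal_of_subsingleton P

/-- a chain `1 ≤ K ≤ G` with `p'`- and `p`-factors -/
theorem isPSolvable_of_normal_compl (K : Subgroup G) [hKn : K.Normal]
    (hK : (Nat.card K).Coprime p) (hidx : ∃ j : ℕ, K.index = p ^ j) : IsPSolvable p G := by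
  refine ⟨2, ![⊥, K, ⊤], rfl, rfl, ?_, ?_, ?_⟩
  · rw [Fin.monotone_iff_le_succ]
    intro i
    fin_cases i
    · exact bot_le
    · exact le_top
  · intro i
    fin_cases i
    · exact (inferInstance : (⊥ : Subgroup G).Normal)
    · exact hKn
    · exact (inferInstance : (⊤ : Subgroup G).Normal)
  · intro i
    fin_cases i
    · right
      show ((⊥ : Subgroup G).relIndex K).Coprime p
      rw [Subgroup.relIndex_bot_left]
      exact hK
    · left
      obtain ⟨k, hk⟩ := hidx
      refine ⟨k, ?_⟩
      show K.relIndex ⊤ = p ^ k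
      rw [Subgroup.relIndex_top_right, hk]

include hmin hab in
theorem isPSolvable_of_normal (P : Sylow p G) (hP : ¬ (P : Subgroup G).Normal)
    (K : Subgroup G) [hKn : K.Normal]
    (hK : (P : Subgroup G) ⊓ Subgroup.center G ⊓ K = ⊥) (hKtop : K ≠ ⊤)
    (hidx : ∃ j : ℕ, K.index = p ^ j) : IsPSolvable p G := by
  have hpp : p.Prime := hp.out
  have hpc := hmin K hKtop
  obtain ⟨Q, hQ⟩ := exists_other_sylow P hP
  obtain ⟨S⟩ : Nonempty (Sylow p K) := inferInstance
  have hSn := hpc S
  haveI := Sylow.characteristic_of_normal S hSn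
  haveI : ((S : Subgroup K).map K.subtype).Normal := ConjAct.normal_of_characteristic_of_normal
  have hEp : IsPGroup p ((S : Subgroup K).map K.subtype) := S.2.map K.subtype
  have hEP : (S : Subgroup K).map K.subtype ≤ (P : Subgroup G) := hEp.le_sylow_of_normal P
  have hEQ : (S : Subgroup K).map K.subtype ≤ (Q : Subgroup G) := hEp.le_sylow_of_normal Q
  have hEK : (S : Subgroup K).map K.subtype ≤ K := Subgroup.map_subtype_le _
  have hEbot : (S : Subgroup K).map K.subtype = ⊥ := by
    rw [eq_bot_iff, ← hK]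
    intro x hx
    exact ⟨⟨hEP hx, sylow_inf_le_center hmin hab P Q hQ ⟨hEP hx, hEQ hx⟩⟩, hEK hx⟩
  have hSbot : (S : Subgroup K) = ⊥ :=
    (Subgroup.map_eq_bot_iff_of_injective _ K.subtype_injective).mp hEbot
  have hcop : (Nat.card K).Coprime p := by
    have h1 := S.not_dvd_index
    rw [hSbot, Subgroup.index_bot] at h1
    exact ((Nat.Prime.coprime_iff_not_dvd hpp).mpr h1).symm
  exact isPSolvable_of_normal_compl K hcop hidx

open scoped IsMulCommutative in
/-- the transfer into an abelian Sylow subgroup, evaluated on central elements -/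
theorem exists_transfer (P : Sylow p G)
    (habP : ∀ a ∈ (P : Subgroup G), ∀ b ∈ (P : Subgroup G), a * b = b * a) :
    ∃ V : G →* (P : Subgroup G), ∀ z ∈ (P : Subgroup G), z ∈ Subgroup.center G →
      ((V z : (P : Subgroup G)) : G) = z ^ (P : Subgroup G).index := by
  haveI : IsMulCommutative (P : Subgroup G) :=
    ⟨⟨fun a b => Subtype.ext (habP a a.2 b b.2)⟩⟩
  refine ⟨MonoidHom.transfer (MonoidHom.id (P : Subgroup G)), ?_⟩
  intro z hzP hzc
  have key : ∀ (k : ℕ) (g₀ : G), g₀⁻¹ * z ^ k * g₀ ∈ (P : Subgroup G) →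
      g₀⁻¹ * z ^ k * g₀ = z ^ k := by
    intro k g₀ _
    have h1 := Subgroup.mem_center_iff.mp (Subgroup.pow_mem _ hzc k) g₀
    rw [mul_assoc, ← h1, ← mul_assoc, inv_mul_cancel, one_mul]
  have h2 := MonoidHom.transfer_eq_pow (ϕ := MonoidHom.id (P : Subgroup G)) z key
  exact congrArg Subtype.val h2

include hmin hab in
/-- Case of a nontrivial central `p`-subgroup: `G` is `p`-solvable. -/
theorem isPSolvable_of_center (P : Sylow p G) (hP : ¬ (P : Subgroup G).Normal)
    (hZ : (P : Subgroup G) ⊓ Subgroup.center G ≠ ⊥) : IsPSolvable p G := by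
  have hpp : p.Prime := hp.out
  obtain ⟨V, hV⟩ := exists_transfer P (hab P)
  -- central `p`-elements in the kernel are trivial
  have hker : ∀ z ∈ (P : Subgroup G), z ∈ Subgroup.center G → z ∈ V.ker → z = 1 := by
    intro z hzP hzc hzk
    have h1 : z ^ (P : Subgroup G).index = 1 := by
      rw [← hV z hzP hzc, MonoidHom.mem_ker.mp hzk]
      rfl
    obtain ⟨k, hk⟩ := (IsPGroup.iff_orderOf.mp P.2) ⟨z, hzP⟩
    have h2 : orderOf z = p ^ k := by
      rw [← hk]
      exact (Subgroup.orderOf_mk z hzP).symm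
    have h3 : orderOf z ∣ (P : Subgroup G).index := orderOf_dvd_of_pow_eq_one h1
    have h4 : ((P : Subgroup G).index).Coprime p :=
      ((Nat.Prime.coprime_iff_not_dvd hpp).mpr P.not_dvd_index).symm
    have h5 : orderOf z = 1 :=
      Nat.eq_one_of_dvd_coprimes (Nat.Coprime.pow_right k h4) h3 (h2 ▸ dvd_refl _)
    exact orderOf_eq_one_iff.mp h5
  apply isPSolvable_of_normal hmin hab P hP V.ker
  · rw [eq_bot_iff]
    intro x hx
    rw [Subgroup.mem_bot]
    exact hker x hx.1.1 hx.1.2 hx.2
  · intro htop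
    apply hZ
    rw [eq_bot_iff]
    intro x hx
    rw [Subgroup.mem_bot]
    exact hker x hx.1 hx.2 (by rw [htop]; exact Subgroup.mem_top x)
  · have h1 : V.ker.index ∣ Nat.card (P : Subgroup G) := by
      rw [Subgroup.index_ker]
      exact Subgroup.card_dvd_of_le le_top |>.trans (by rw [Subgroup.card_top])
    obtain ⟨k, hk⟩ := IsPGroup.iff_card.mp P.2
    rw [hk] at h1
    obtain ⟨j, -, hj⟩ := (Nat.dvd_prime_pow hpp).mp h1
    exact ⟨j, hj⟩

end minimal2

end Cfsg.Agent.Helper15.Ito
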