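import Mathlib
import Cfsg.Agent.Lib.Helper15.Ito.Small

set_option autoImplicit false
set_option linter.unusedSectionVars false
set_option linter.style.haveILetI false

namespace Cfsg.Agent.Helper15.Ito

open Cfsg Cfsg.Agent.Helper81 Cfsg.Agent.Helper79
open scoped ComplexConjugate Pointwise commutatorElement

universe u

section minimal3

variable {G : Type u} [Group G] [Finite G] {p : ℕ} [hp : Fact p.Prime]
  (hmin : ∀ K : Subgroup G, K ≠ ⊤ → PClosed p K)
  (hab : ∀ Q : Sylow p G, ∀ a ∈ (Q : Subgroup G), ∀ b ∈ (Q : Subgroup G), a * b = b * a)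

theorem coe_smul_sylow (P : Sylow p G) (a : G) :
    ((a • P : Sylow p G) : Subgroup G) = (P : Subgroup G).map (MulAut.conj a).toMonoidHom := rfl

theorem sylow_inf_center_eq_bot (P : Sylow p G)
    (hZ : (P : Subgroup G) ⊓ Subgroup.center G = ⊥) (Q : Sylow p G) :
    (Q : Subgroup G) ⊓ Subgroup.center G = ⊥ := by
  obtain ⟨c, hc⟩ := MulAction.exists_smul_eq G P Q
  rw [eq_bot_iff]
  intro x hx
  rw [← hZ]
  refine ⟨?_, hx.2⟩
  have h1 : x ∈ ((c • P : Sylow p G) : Subgroup G) := by rw [hc]; exact hx.1
  rw [coe_smul_sylow] at h1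
  obtain ⟨y, hy, hyx⟩ := h1
  have h2 : c * y * c⁻¹ = x := by simpa using hyx
  have h3 := Subgroup.mem_center_iff.mp hx.2 c
  have h4 : y = x := by
    calc y = c⁻¹ * (c * y * c⁻¹) * c := by group
      _ = c⁻¹ * x * c := by rw [h2]
      _ = c⁻¹ * (c * x) := by rw [mul_assoc, h3]
      _ = x := by group
  rw [← h4]
  exact hy

include hmin hab in
theorem hone_of_minimal (P : Sylow p G) (hZ : (P : Subgroup G) ⊓ Subgroup.center G = ⊥) :
    ∀ g : G, g ∉ Subgroup.center G → ∀ a b : G,
      Subgroup.centralizer ({g} : Set G) ⊓ (P : Subgroup G).map (MulAut.conj a).toMonoidHom ≠ ⊥ →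
      Subgroup.centralizer ({g} : Set G) ⊓ (P : Subgroup G).map (MulAut.conj b).toMonoidHom ≠ ⊥ →
      (P : Subgroup G).map (MulAut.conj a).toMonoidHom =
        (P : Subgroup G).map (MulAut.conj b).toMonoidHom := by
  intro g hg a b ha hb
  have hCtop : Subgroup.centralizer ({g} : Set G) ≠ ⊤ := by
    intro htop
    apply hg
    rw [Subgroup.mem_center_iff]
    intro h
    have h1 : h ∈ Subgroup.centralizer ({g} : Set G) := by rw [htop]; exact Subgroup.mem_top h
    rw [Subgroup.mem_centralizer_iff] at h1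
    exact (h1 g rfl).symm
  have hpc := hmin _ hCtop
  obtain ⟨S⟩ : Nonempty (Sylow p ↥(Subgroup.centralizer ({g} : Set G))) := inferInstance
  have hSn := hpc S
  obtain ⟨R, hR⟩ := (S.2.map (Subgroup.centralizer ({g} : Set G)).subtype).exists_le_sylow
  have key : ∀ Q : Sylow p G, Subgroup.centralizer ({g} : Set G) ⊓ (Q : Subgroup G) ≠ ⊥ →
      Q = R := by
    intro Q hQ
    by_contra hne
    apply hQ
    rw [eq_bot_iff]
    intro x hx
    obtain ⟨k, hk⟩ := (IsPGroup.iff_orderOf.mp Q.2) ⟨x, hx.2⟩
    have hxk : x ^ p ^ k = 1 := by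
      have h1 : orderOf x = p ^ k := by
        rw [← hk]
        exact (Subgroup.orderOf_mk x hx.2).symm
      rw [← h1]
      exact pow_orderOf_eq_one x
    have hxS : (⟨x, hx.1⟩ : ↥(Subgroup.centralizer ({g} : Set G))) ∈
        (S : Subgroup ↥(Subgroup.centralizer ({g} : Set G))) := by
      haveI : Fintype ↥(Subgroup.centralizer ({g} : Set G)) := Fintype.ofFinite _
      apply mem_sylow_of_mem_normalizer_of_pow S _ (k := k)
      · apply Subtype.ext
        rw [Subgroup.coe_pow, Subgroup.coe_one]
        exact hxk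
      · rw [Subgroup.normalizer_eq_top_iff.mpr hSn]
        exact Subgroup.mem_top _
    have hxR : x ∈ (R : Subgroup G) := hR ⟨⟨x, hx.1⟩, hxS, rfl⟩
    have hxZ : x ∈ Subgroup.center G := sylow_inf_le_center hmin hab Q R hne ⟨hx.2, hxR⟩
    rw [← sylow_inf_center_eq_bot P hZ Q]
    exact ⟨hx.2, hxZ⟩
  have h1 : (a • P : Sylow p G) = R := key _ (by rw [coe_smul_sylow]; exact ha)
  have h2 : (b • P : Sylow p G) = R := key _ (by rw [coe_smul_sylow]; exact hb)
  rw [← coe_smul_sylow, ← coe_smul_sylow, h1, h2]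

include hmin hab in
/-- The TI case: `G` is `p`-solvable. -/
theorem isPSolvable_of_TI (P : Sylow p G) (hP : ¬ (P : Subgroup G).Normal)
    (hZ : (P : Subgroup G) ⊓ Subgroup.center G = ⊥)
    (hcard : p ^ 2 ≤ Nat.card (P : Subgroup G))
    (χ : G → ℂ) (hχ : IsCharacter G χ) (hfaith : ∀ g : G, χ g = χ 1 → g = 1)
    (hdeg : charDegree χ + 1 < p) : IsPSolvable p G := by
  classical
  have hpp : p.Prime := hp.out
  haveI : Fintype G := Fintype.ofFinite G
  haveI : Fintype (P : Subgroup G) := Fintype.ofFinite _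
  haveI : Finite (IrrCharacter G) := Cfsg.Agent.Helper81.irr_finite
  haveI : Fintype (IrrCharacter G) := Fintype.ofFinite _
  obtain ⟨m, hval, -, hle⟩ := decomp_data hχ
  have hone := hone_of_minimal hmin hab P hZ
  have hnc : ∀ M : Subgroup G, M.Normal → (P : Subgroup G) ≤ M → M = ⊤ := by
    intro M hMn hPM
    by_contra hM
    haveI := hMn
    exact hP (normal_of_le_normal_pclosed (hmin M hM) P hPM)
  -- every relevant constituent is linear or trivial on `P`
  have hall : ∀ ψ : IrrCharacter G, m ψ ≠ 0 →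
      (ψ : G → ℂ) 1 = 1 ∨ ∀ h ∈ (P : Subgroup G), (ψ : G → ℂ) h = (ψ : G → ℂ) 1 := by
    intro ψ hψ
    by_contra hcon
    push Not at hcon
    obtain ⟨h1, h, hhP, hh⟩ := hcon
    have hb := (Cfsg.Agent.S0898.result (P : Subgroup G) (hab P) hZ hone (ψ : G → ℂ) ψ.2
      ⟨h, hhP, hh⟩).2 h1 hnc
    have hd := (irr_one_eq ψ).1
    rw [hd] at hb
    simp only [Complex.natCast_re] at hb
    have h2 : charDegree (ψ : G → ℂ) ≤ charDegree χ := hle ψ hψ
    have h3 : ((1 + charDegree (ψ : G → ℂ) : ℕ) : ℝ) ^ 2 > (Nat.card (P : Subgroup G) : ℝ) := by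
      push_cast; exact hb
    have h4 : (1 + charDegree (ψ : G → ℂ)) ^ 2 > Nat.card (P : Subgroup G) := by
      exact_mod_cast h3
    have h5 : (1 + charDegree (ψ : G → ℂ)) ^ 2 < p ^ 2 :=
      Nat.pow_lt_pow_left (by omega) (by norm_num)
    omega
  -- `P ∩ G' = 1`
  have hPK : ∀ x ∈ (P : Subgroup G), x ∈ commutator G → x = 1 := by
    intro x hxP hxK
    apply hfaith
    rw [hval, hval]
    apply Finset.sum_congr rfl
    intro ψ _
    by_cases hψ : m ψ = 0
    · rw [hψ]; simp
    · congr 1
      rcases hall ψ hψ with h1 | h1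
      · have h2 : x ∈ (Cfsg.Agent.Helper74.Lin.toHom ψ h1).ker :=
          Abelianization.commutator_subset_ker _ hxK
        have h3 := MonoidHom.mem_ker.mp h2
        have h4 : (ψ : G → ℂ) x = ((Cfsg.Agent.Helper74.Lin.toHom ψ h1 x : ℂˣ) : ℂ) := rfl
        rw [h4, h3, h1]
        rfl
      · exact h1 x hxP
  have hKn : (commutator G).Normal := inferInstance
  apply isPSolvable_of_normal hmin hab P hP (commutator G)
  · rw [hZ, bot_inf_eq]
  · intro htop
    have h1 : (P : Subgroup G) = ⊥ := by
      rw [eq_bot_iff]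
      intro x hx
      rw [Subgroup.mem_bot]
      exact hPK x hx (by rw [htop]; exact Subgroup.mem_top x)
    rw [h1, Subgroup.card_bot] at hcard
    have : 2 ≤ p := hpp.two_le
    nlinarith
  · -- the index of `G'`
    haveI hsupn : (commutator G ⊔ (P : Subgroup G)).Normal := by
      constructor
      intro h hh g
      have h1 : g * h * g⁻¹ = ⁅g, h⁆ * h := by
        rw [commutatorElement_def]; group
      rw [h1]
      apply Subgroup.mul_mem _ _ hh
      apply (le_sup_left : commutator G ≤ commutator G ⊔ (P : Subgroup G))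
      rw [commutator_def]
      exact Subgroup.commutator_mem_commutator (Subgroup.mem_top g) (Subgroup.mem_top h)
    have hsup : commutator G ⊔ (P : Subgroup G) = ⊤ := hnc _ hsupn le_sup_right
    have h1 : (commutator G).index ∣ Nat.card (P : Subgroup G) := by
      rw [← Subgroup.relIndex_top_right, ← hsup, Subgroup.relIndex_sup_left]
      exact Subgroup.relIndex_dvd_card _ _
    obtain ⟨k, hk⟩ := IsPGroup.iff_card.mp P.2
    rw [hk] at h1
    obtain ⟨j, -, hj⟩ := (Nat.dvd_prime_pow hpp).mp h1
    exact ⟨j, hj⟩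

end minimal3

/-- Small degree main theorem, character form. -/
theorem small_main (p : ℕ) [hp : Fact p.Prime] : ∀ (N : ℕ) (G : Type u) [Group G] [Finite G],
    Nat.card G = N → ∀ χ : G → ℂ, IsCharacter G χ → (∀ g : G, χ g = χ 1 → g = 1) →
    charDegree χ + 1 < p → (∀ K : Subgroup G, ¬ p ^ 2 ∣ Nat.card K → PClosed p K) →
    ∀ P : Sylow p G, (P : Subgroup G).Normal := by
  intro N
  induction N using Nat.strong_induction_on with
  | _ N ih =>
  intro G _ _ hcard χ hχ hfaith hdeg hG P
  have hpp : p.Prime := hp.out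
  have hmin : ∀ K : Subgroup G, K ≠ ⊤ → PClosed p K := by
    intro K hKtop Q
    have hlt : Nat.card K < N := hcard ▸ Cfsg.Agent.Helper76.card_subgroup_lt_of_ne_top K hKtop
    have hdegK : charDegree (fun k : K => χ k) = charDegree χ := rfl
    have hfaithK : ∀ g : K, (fun k : K => χ k) g = (fun k : K => χ k) 1 → g = 1 := by
      intro g hg
      exact Subtype.ext (hfaith g hg)
    apply ih (Nat.card K) hlt K rfl (fun k : K => χ k) (isCharacter_restrict K hχ) hfaithK
      (by rw [hdegK]; exact hdeg) ?_ Q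
    intro K' hK' Q'
    have hc : Nat.card (K'.map K.subtype) = Nat.card K' :=
      (Nat.card_congr (K'.equivMapOfInjective K.subtype K.subtype_injective).toEquiv).symm
    exact sylow_normal_of_equiv (K'.equivMapOfInjective K.subtype K.subtype_injective)
      (hG (K'.map K.subtype) (by rw [hc]; exact hK')) Q'
  by_contra hP
  have hab : ∀ Q : Sylow p G, ∀ a ∈ (Q : Subgroup G), ∀ b ∈ (Q : Subgroup G), a * b = b * a :=
    fun Q => sylow_abelian_of_faithful p hχ hfaith (by omega) Q
  have hp2 : p ^ 2 ∣ Nat.card G := by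
    by_contra h2
    have h3 := hG ⊤ (by rwa [Subgroup.card_top])
    exact hP (sylow_normal_of_equiv Subgroup.topEquiv.symm h3 P)
  have hcardP : p ^ 2 ≤ Nat.card (P : Subgroup G) := by
    rw [Sylow.card_eq_multiplicity]
    apply Nat.pow_le_pow_right hpp.pos
    exact (hpp.pow_dvd_iff_le_factorization (Nat.card_pos.ne')).mp hp2
  have hsolv : IsPSolvable p G := by
    by_cases hZ : (P : Subgroup G) ⊓ Subgroup.center G = ⊥
    · exact isPSolvable_of_TI hmin hab P hP hZ hcardP χ hχ hfaith hdeg
    · exact isPSolvable_of_center hmin hab P hP hZ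
  have h1 := (ito_main p (Nat.card G) G rfl hsolv χ hχ hfaith (by omega) P hP).1
  omega

/-- subgroups whose Sylow `p`-subgroups have order at most `p` are `p`-closed, when the degree is
small -/
theorem pclosed_of_not_sq_dvd {G : Type u} [Group G] [Finite G] (p : ℕ) [hp : Fact p.Prime]
    (χ : G → ℂ) (hχ : IsCharacter G χ) (hfaith : ∀ g : G, χ g = χ 1 → g = 1)
    (hdeg : charDegree χ ^ 2 + 1 < p) (K : Subgroup G) (hK : ¬ p ^ 2 ∣ Nat.card K) :
    PClosed p K := by
  have hpp : p.Prime := hp.out
  intro Q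
  have hK0 : Nat.card K ≠ 0 := Nat.card_pos.ne'
  by_cases hpK : p ∣ Nat.card K
  · have hf1 : 1 ≤ (Nat.card K).factorization p :=
      (hpp.pow_dvd_iff_le_factorization hK0).mp (by simpa using hpK)
    have hf2 : ¬ 2 ≤ (Nat.card K).factorization p := fun h =>
      hK ((hpp.pow_dvd_iff_le_factorization hK0).mpr h)
    have hcQ : Nat.card (Q : Subgroup K) = p ^ 1 := by
      rw [Sylow.card_eq_multiplicity]
      congr 1
      omega
    have hstar : ∀ x ∈ (Q : Subgroup K), x ≠ 1 →
        Subgroup.centralizer ({x} : Set K) = Subgroup.centralizer ((Q : Subgroup K) : Set K) := by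
      intro x hx hx1
      have ho : orderOf x ∣ p := by
        have h1 := orderOf_dvd_natCard (⟨x, hx⟩ : (Q : Subgroup K))
        rw [Subgroup.orderOf_mk, hcQ, pow_one] at h1
        exact h1
      have ho' : orderOf x = p := by
        rcases (Nat.dvd_prime hpp).mp ho with h | h
        · exact absurd (orderOf_eq_one_iff.mp h) hx1
        · exact h
      have hzQ : Subgroup.zpowers x = (Q : Subgroup K) := by
        apply Subgroup.eq_of_le_of_card_ge
        · rw [Subgroup.zpowers_le]; exact hx
        · rw [Nat.card_zpowers, ho', hcQ, pow_one]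
      apply le_antisymm
      · intro h hh
        rw [Subgroup.mem_centralizer_iff] at hh ⊢
        intro y hy
        rw [SetLike.mem_coe, ← hzQ, Subgroup.mem_zpowers_iff] at hy
        obtain ⟨k, rfl⟩ := hy
        have hc : Commute x h := hh x rfl
        exact (hc.zpow_left k).eq
      · apply Subgroup.centralizer_le
        intro y hy
        rw [Set.mem_singleton_iff] at hy
        rw [hy]
        exact hx
    have hfaithK : ∀ g : K, (fun k : K => χ k) g = (fun k : K => χ k) 1 → g = 1 := by
      intro g hg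
      exact Subtype.ext (hfaith g hg)
    have hdegK : charDegree (fun k : K => χ k) = charDegree χ := rfl
    exact Cfsg.Agent.S4485.result p hpp hpK Q hstar 1 hcQ (fun k : K => χ k)
      (isCharacter_restrict K hχ) hfaithK (by rw [hdegK, pow_one]; exact hdeg)
  · have hf0 : (Nat.card K).factorization p = 0 := Nat.factorization_eq_zero_of_not_dvd hpK
    have hcQ : Nat.card (Q : Subgroup K) = 1 := by
      rw [Sylow.card_eq_multiplicity, hf0, pow_zero]
    rw [Subgroup.card_eq_one.mp hcQ]
    infer_instance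

/-- Small degree main theorem, representation form. -/
theorem small_result {G : Type u} [Group G] [Finite G] (n : ℕ)
    (ρ : Representation ℂ G (Fin n → ℂ)) (hρ : Function.Injective ρ) (p : ℕ) [hp : Fact p.Prime]
    (h : (n + 1) ^ 2 ≤ p ∨ (n + 1 < p ∧ ∀ K : Subgroup G, ¬ p ^ 2 ∣ Nat.card K →
      ∀ Q : Sylow p K, (Q : Subgroup K).Normal)) (P : Sylow p G) : (P : Subgroup G).Normal := by
  have hχ : IsCharacter G ρ.character := ⟨n, ρ, rfl⟩
  have h1 : ρ.character 1 = (n : ℂ) := by
    rw [Representation.char_one]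
    simp
  have hdeg : charDegree ρ.character = n := by
    unfold charDegree
    rw [h1]
    simp
  have hfaith : ∀ g : G, ρ.character g = ρ.character 1 → g = 1 := by
    intro g hg
    apply hρ
    rw [map_one]
    apply (char_eq_finrank_iff ρ g).mp
    rw [hg, Representation.char_one]
  rcases h with h | ⟨h, hG⟩
  · rcases Nat.eq_zero_or_pos n with hn0 | hnpos
    · -- degree zero: `G` is trivial
      subst hn0
      haveI : Subsingleton G := by
        constructor
        intro a b
        apply hρ
        apply LinearMap.ext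
        intro v
        exact Subsingleton.elim _ _
      constructor
      intro x hx g
      rw [Subsingleton.elim (g * x * g⁻¹) x]
      exact hx
    · apply small_main p (Nat.card G) G rfl ρ.character hχ hfaith (by rw [hdeg]; nlinarith)
      intro K hK
      apply pclosed_of_not_sq_dvd p ρ.character hχ hfaith _ K hK
      rw [hdeg]
      nlinarith
  · exact small_main p (Nat.card G) G rfl ρ.character hχ hfaith (by rw [hdeg]; exact h) hG P

end Cfsg.Agent.Helper15.Ito
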